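import Mathlib
import Cfsg.Prelude.Def_GeometricClasses

/-!
Basic API for the vocabulary of `Def_GeometricClasses`: stabilisers, the special linear group,
scalars, and transvections `v ↦ v + φ v • w` with `φ w = 0`.
-/

set_option autoImplicit false

namespace Cfsg.Agent.GeoClasses

open Matrix Cfsg.Geo
open scoped MatrixGroups Matrix

variable {ι : Type} [Fintype ι] [DecidableEq ι] {F : Type*} [Field F]

lemma mem_specialLinear_iff {g : GL ι F} :
    g ∈ specialLinear ι F ↔ (g : Matrix ι ι F).det = 1 := by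
  rw [specialLinear, MonoidHom.mem_ker]
  exact ⟨fun h => by simpa using congrArg Units.val h, fun h => Units.ext (by simpa using h)⟩

lemma mem_subspaceStabilizer_iff {W : Submodule F (ι → F)} {g : GL ι F} :
    g ∈ subspaceStabilizer W ↔ ∀ v, v ∈ W ↔ (g : Matrix ι ι F) *ᵥ v ∈ W :=
  Iff.rfl

lemma mulVec_injective (g : GL ι F) : Function.Injective ((g : Matrix ι ι F) *ᵥ ·) := by
  intro u v h
  have := congrArg (((g⁻¹ : GL ι F) : Matrix ι ι F) *ᵥ ·) h
  simpa [Matrix.mulVec_mulVec, ← Units.val_mul] using this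

/-- An invertible matrix mapping a subspace into itself maps it onto itself. -/
lemma mem_subspaceStabilizer_of_le {W : Submodule F (ι → F)} {g : GL ι F}
    (h : ∀ v ∈ W, (g : Matrix ι ι F) *ᵥ v ∈ W) : g ∈ subspaceStabilizer W := by
  refine mem_subspaceStabilizer_iff.2 fun v => ⟨h v, fun hv => ?_⟩
  let L : W →ₗ[F] W :=
    ((Matrix.toLin' (g : Matrix ι ι F)).comp W.subtype).codRestrict W fun w => by
      simpa using h w w.2
  have hinj : Function.Injective L := by
    intro a b hab
    apply Subtype.ext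
    apply mulVec_injective g
    simpa [L] using congrArg Subtype.val hab
  obtain ⟨w, hw⟩ := L.surjective_of_injective hinj ⟨_, hv⟩
  have : (g : Matrix ι ι F) *ᵥ (w : ι → F) = (g : Matrix ι ι F) *ᵥ v := by
    simpa [L] using congrArg Subtype.val hw
  rw [← mulVec_injective g this]
  exact w.2

lemma mem_subspaceStabilizer_iff_map_eq {W : Submodule F (ι → F)} {g : GL ι F} :
    g ∈ subspaceStabilizer W ↔ W.map (Matrix.toLin' (g : Matrix ι ι F)) = W := by
  constructor
  · intro h
    rw [mem_subspaceStabilizer_iff] at h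
    ext v
    simp only [Submodule.mem_map, Matrix.toLin'_apply]
    constructor
    · rintro ⟨w, hw, rfl⟩
      exact (h w).1 hw
    · intro hv
      have hgv : (g : Matrix ι ι F) *ᵥ (((g⁻¹ : GL ι F) : Matrix ι ι F) *ᵥ v) = v := by
        simp [Matrix.mulVec_mulVec]
      exact ⟨_, (h _).2 (by rw [hgv]; exact hv), hgv⟩
  · intro h
    refine mem_subspaceStabilizer_of_le fun v hv => ?_
    rw [← h]
    exact ⟨v, hv, Matrix.toLin'_apply _ _⟩

/-- The transvection `v ↦ v + φ v • w` as an element of `GL`, for `φ w = 0`. -/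
noncomputable def transv (φ : (ι → F) →ₗ[F] F) (w : ι → F) (h : φ w = 0) : GL ι F where
  val := LinearMap.toMatrix' (LinearMap.id + φ.smulRight w)
  inv := LinearMap.toMatrix' (LinearMap.id - φ.smulRight w)
  val_inv := by
    rw [← LinearMap.toMatrix'_comp, ← LinearMap.toMatrix'_id]
    congr 1
    refine LinearMap.ext fun v => ?_
    simp [h]
  inv_val := by
    rw [← LinearMap.toMatrix'_comp, ← LinearMap.toMatrix'_id]
    congr 1
    refine LinearMap.ext fun v => ?_
    simp [h]

@[simp] lemma transv_mulVec (φ : (ι → F) →ₗ[F] F) (w : ι → F) (h : φ w = 0) (v : ι → F) :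
    (transv φ w h : Matrix ι ι F) *ᵥ v = v + φ v • w := by
  simp [transv, Matrix.add_mulVec, LinearMap.toMatrix'_mulVec]

lemma transv_mem_specialLinear (φ : (ι → F) →ₗ[F] F) (w : ι → F) (h : φ w = 0) :
    transv φ w h ∈ specialLinear ι F := by
  rw [mem_specialLinear_iff]
  set a : ι → F := fun i => φ (Pi.single i 1) with ha
  have hφ : ∀ v, φ v = a ⬝ᵥ v := fun v => by
    conv_lhs => rw [pi_eq_sum_univ' v, map_sum]
    simp [dotProduct, ha, mul_comm]
  have hmat : (transv φ w h : Matrix ι ι F) =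
      1 + Matrix.replicateCol Unit w * Matrix.replicateRow Unit a := by
    apply Matrix.toLin'.injective
    refine LinearMap.ext fun v => ?_
    simp only [Matrix.toLin'_apply, Matrix.add_mulVec, Matrix.one_mulVec, transv_mulVec,
      ← Matrix.mulVec_mulVec, hφ]
    congr 1
    ext i
    simp [Matrix.mulVec, dotProduct, Matrix.replicateCol, mul_comm]
  rw [hmat, Matrix.det_one_add_replicateCol_mul_replicateRow, ← hφ, h, add_zero]

lemma exists_functional {p : Submodule F (ι → F)} {x : ι → F} (hx : x ∉ p) :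
    ∃ φ : (ι → F) →ₗ[F] F, φ x = 1 ∧ ∀ v ∈ p, φ v = 0 := by
  obtain ⟨f, hfx, hf⟩ := Submodule.exists_dual_map_eq_bot_of_notMem hx inferInstance
  refine ⟨(f x)⁻¹ • f, by simp [hfx], fun v hv => ?_⟩
  have hfv : f v = 0 := by
    have hmem : f v ∈ p.map f := ⟨v, hv, rfl⟩
    rw [hf] at hmem
    simpa using hmem
  simp [hfv]

/-- There is a transvection of determinant one fixing `W` and moving `U`, for distinct proper
non-zero subspaces `W`, `U`. -/
lemma exists_mem_stabilizer_not_mem {W U : Submodule F (ι → F)} (hW : W ≠ ⊥) (hU : U ≠ ⊤)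
    (hne : ¬ U ≤ W) :
    ∃ g : GL ι F, g ∈ specialLinear ι F ∧ g ∈ subspaceStabilizer W ∧
      g ∉ subspaceStabilizer U := by
  obtain ⟨u, huU, huW⟩ := SetLike.not_le_iff_exists.1 hne
  have hU' : U < ⊤ := lt_top_iff_ne_top.2 hU
  obtain ⟨w, -, hwU⟩ := SetLike.exists_of_lt hU'
  have key : ∃ (φ : (ι → F) →ₗ[F] F) (w' : ι → F),
      φ w' = 0 ∧ w' ∉ U ∧ φ u = 1 ∧ ∀ v ∈ W, φ v • w' ∈ W := by
    by_cases hWU : W ≤ U
    · have hu' : u ∉ W ⊔ (F ∙ w) := by
        intro hu
        obtain ⟨x, hx, y, hy, hxy⟩ := Submodule.mem_sup.1 hu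
        obtain ⟨c, rfl⟩ := Submodule.mem_span_singleton.1 hy
        by_cases hc : c = 0
        · simp [hc] at hxy
          exact huW (hxy ▸ hx)
        · have : c • w ∈ U := by
            have := sub_mem huU (hWU hx)
            rwa [← hxy, add_sub_cancel_left] at this
          exact hwU (by simpa [hc] using U.smul_mem c⁻¹ this)
      obtain ⟨φ, hφu, hφ⟩ := exists_functional hu'
      exact ⟨φ, w, hφ w (Submodule.mem_sup_right (Submodule.mem_span_singleton_self w)), hwU, hφu,
        fun v hv => by simp [hφ v (Submodule.mem_sup_left hv)]⟩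
    · obtain ⟨w', hw'W, hw'U⟩ := SetLike.not_le_iff_exists.1 hWU
      obtain ⟨φ, hφu, hφ⟩ := exists_functional huW
      exact ⟨φ, w', hφ w' hw'W, hw'U, hφu, fun v _ => W.smul_mem _ hw'W⟩
  obtain ⟨φ, w', hφw, hw', hφu, hφW⟩ := key
  refine ⟨transv φ w' hφw, transv_mem_specialLinear _ _ _,
    mem_subspaceStabilizer_of_le fun v hv => ?_, fun hg => ?_⟩
  · rw [transv_mulVec]
    exact W.add_mem hv (hφW v hv)
  · have := (mem_subspaceStabilizer_iff.1 hg u).1 huU
    rw [transv_mulVec, hφu, one_smul] at this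
    exact hw' (by simpa using U.sub_mem this huU)

lemma specialLinear_not_le_stabilizer {U : Submodule F (ι → F)} (h0 : U ≠ ⊥) (h1 : U ≠ ⊤) :
    ¬ specialLinear ι F ≤ subspaceStabilizer U := by
  intro hle
  obtain ⟨u, huU, hu0⟩ := U.exists_mem_ne_zero_of_ne_bot h0
  obtain ⟨w, -, hwU⟩ := SetLike.exists_of_lt (lt_top_iff_ne_top.2 h1)
  have hu' : u ∉ F ∙ w := by
    intro hu
    obtain ⟨c, rfl⟩ := Submodule.mem_span_singleton.1 hu
    have hc : c ≠ 0 := fun hc => hu0 (by simp [hc])
    exact hwU (by simpa [hc] using U.smul_mem c⁻¹ huU)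
  obtain ⟨φ, hφu, hφ⟩ := exists_functional hu'
  have hw : φ w = 0 := hφ w (Submodule.mem_span_singleton_self w)
  have := (mem_subspaceStabilizer_iff.1 (hle (transv_mem_specialLinear φ w hw)) u).1 huU
  rw [transv_mulVec, hφu, one_smul] at this
  exact hwU (by simpa using U.sub_mem this huU)

/-- The joint stabiliser of two subspaces in SL is not maximal. -/
lemma pair_stabilizer_not_maximal {W U : Submodule F (ι → F)} (hW : W ≠ ⊥) (hW' : W ≠ ⊤)
    (hU : U ≠ ⊤) (hne : ¬ U ≤ W) :
    ∃ K : Subgroup (GL ι F), subspaceStabilizer W ⊓ subspaceStabilizer U ⊓ specialLinear ι F < K ∧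
      K < specialLinear ι F := by
  refine ⟨subspaceStabilizer W ⊓ specialLinear ι F, ?_, ?_⟩
  · refine lt_of_le_not_ge (inf_le_inf_right _ inf_le_left) fun hle => ?_
    obtain ⟨g, hS, hgW, hgU⟩ := exists_mem_stabilizer_not_mem hW hU hne
    exact hgU (hle ⟨hgW, hS⟩).1.2
  · exact lt_of_le_not_ge inf_le_right
      fun hle => specialLinear_not_le_stabilizer hW hW' (hle.trans inf_le_left)

end Cfsg.Agent.GeoClasses
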