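import Mathlib
import Cfsg.Prelude.Def_GeometricClasses

/-!
Systems of matrix units in a matrix algebra over a field are conjugate to standard ones.
-/

set_option autoImplicit false
set_option maxHeartbeats 400000

namespace Cfsg.Agent.GeoClasses

open Matrix
open scoped MatrixGroups Matrix Kronecker

variable {ι κ : Type} [Fintype ι] [DecidableEq ι] [Fintype κ] [DecidableEq κ] {F : Type*} [Field F]

/-- Transport of matrices along a linear isomorphism of coordinate spaces. -/
noncomputable def conjMat (L : (κ → F) ≃ₗ[F] (ι → F)) : Matrix κ κ F ≃ₐ[F] Matrix ι ι F :=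
  (Matrix.toLinAlgEquiv'.trans (L.conjAlgEquiv F)).trans LinearMap.toMatrixAlgEquiv'

lemma conjMat_mulVec (L : (κ → F) ≃ₗ[F] (ι → F)) (X : Matrix κ κ F) (v : ι → F) :
    conjMat L X *ᵥ v = L (X *ᵥ L.symm v) := by
  rw [← Matrix.toLinAlgEquiv'_apply]
  simp [conjMat]

lemma conjMat_mulVec_apply (L : (κ → F) ≃ₗ[F] (ι → F)) (X : Matrix κ κ F) (x : κ → F) :
    conjMat L X *ᵥ L x = L (X *ᵥ x) := by
  rw [conjMat_mulVec, L.symm_apply_apply]

lemma mat_ext_mulVec {X Y : Matrix ι ι F} (h : ∀ v, X *ᵥ v = Y *ᵥ v) : X = Y :=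
  Matrix.toLin'.injective (LinearMap.ext fun v => by simpa using h v)

lemma gl_mulVec_inv (g : GL ι F) (v : ι → F) :
    (g : Matrix ι ι F) *ᵥ (((g⁻¹ : GL ι F) : Matrix ι ι F) *ᵥ v) = v := by
  simp [Matrix.mulVec_mulVec]

lemma gl_inv_mulVec (g : GL ι F) (v : ι → F) :
    ((g⁻¹ : GL ι F) : Matrix ι ι F) *ᵥ ((g : Matrix ι ι F) *ᵥ v) = v := by
  simp [Matrix.mulVec_mulVec]

/-- The invertible matrix of a linear automorphism. -/
noncomputable def glOfEquiv (E : (ι → F) ≃ₗ[F] (ι → F)) : GL ι F where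
  val := LinearMap.toMatrix' E.toLinearMap
  inv := LinearMap.toMatrix' E.symm.toLinearMap
  val_inv := by rw [← LinearMap.toMatrix'_comp]; simp
  inv_val := by rw [← LinearMap.toMatrix'_comp]; simp

@[simp] lemma glOfEquiv_mulVec (E : (ι → F) ≃ₗ[F] (ι → F)) (v : ι → F) :
    (glOfEquiv E : Matrix ι ι F) *ᵥ v = E v := by
  simp [glOfEquiv, LinearMap.toMatrix'_mulVec]

/-- An invertible matrix as a linear automorphism. -/
noncomputable def equivOfGL (g : GL ι F) : (ι → F) ≃ₗ[F] (ι → F) :=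
  LinearEquiv.ofLinearMap (Matrix.toLin' (g : Matrix ι ι F))
    (Matrix.toLin' ((g⁻¹ : GL ι F) : Matrix ι ι F))
    (LinearMap.ext fun v => by simp [Matrix.mulVec_mulVec])
    (LinearMap.ext fun v => by simp [Matrix.mulVec_mulVec])

@[simp] lemma equivOfGL_apply (g : GL ι F) (v : ι → F) :
    equivOfGL g v = (g : Matrix ι ι F) *ᵥ v := rfl

lemma conjMat_equivOfGL (g : GL ι F) (X : Matrix ι ι F) :
    conjMat (equivOfGL g) X
      = (g : Matrix ι ι F) * X * ((g⁻¹ : GL ι F) : Matrix ι ι F) := by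
  apply mat_ext_mulVec
  intro v
  rw [conjMat_mulVec, ← Matrix.mulVec_mulVec, ← Matrix.mulVec_mulVec, equivOfGL_apply]
  rfl

/-- Two transports differ by an inner automorphism. -/
lemma exists_conj_conjMat (L L' : (κ → F) ≃ₗ[F] (ι → F)) :
    ∃ B : GL ι F, ∀ X : Matrix κ κ F, conjMat L' X
      = (B : Matrix ι ι F) * conjMat L X * ((B⁻¹ : GL ι F) : Matrix ι ι F) := by
  refine ⟨glOfEquiv (L.symm.trans L'), fun X => ?_⟩
  apply mat_ext_mulVec
  intro v
  have hinv : (((glOfEquiv (L.symm.trans L'))⁻¹ : GL ι F) : Matrix ι ι F) *ᵥ v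
      = L (L'.symm v) := by
    show LinearMap.toMatrix' ((L.symm.trans L').symm.toLinearMap) *ᵥ v = _
    simp [LinearMap.toMatrix'_mulVec]
  rw [conjMat_mulVec, ← Matrix.mulVec_mulVec, ← Matrix.mulVec_mulVec, hinv, conjMat_mulVec_apply,
    glOfEquiv_mulVec]
  simp

/-- Reindexing followed by conjugation, as used by the Prelude's geometric classes. -/
lemma exists_conj_reindex (L : (κ → F) ≃ₗ[F] (ι → F)) (σ : ι ≃ κ) :
    ∃ P : GL ι F, ∀ X : Matrix κ κ F, conjMat L X
      = (P : Matrix ι ι F) * Matrix.reindexAlgEquiv F F σ.symm X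
          * ((P⁻¹ : GL ι F) : Matrix ι ι F) := by
  obtain ⟨B, hB⟩ := exists_conj_conjMat (LinearEquiv.funCongrLeft F F σ) L
  refine ⟨B, fun X => ?_⟩
  rw [hB]
  congr 2
  apply mat_ext_mulVec
  intro v
  rw [conjMat_mulVec]
  ext i
  simp [Matrix.mulVec, dotProduct, LinearEquiv.funCongrLeft_apply, LinearMap.funLeft]
  exact (Equiv.sum_comp σ (fun k => X (σ i) k * v (σ.symm k))).symm.trans (by simp)

/-- A system of matrix units. -/
def IsUnitSystem (e : κ → κ → Matrix ι ι F) : Prop :=
  (∀ i j k l, e i j * e k l = if j = k then e i l else 0) ∧ ∑ i, e i i = 1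

lemma isUnitSystem_single : IsUnitSystem (fun i j : κ => Matrix.single i j (1 : F)) := by
  refine ⟨fun i j k l => ?_, ?_⟩
  · dsimp
    split_ifs with h
    · subst h; simp
    · simp [h]
  · ext a b
    simp [Matrix.sum_apply, Matrix.single_apply, Matrix.one_apply, ite_and]

lemma IsUnitSystem.map {e : κ → κ → Matrix ι ι F} (h : IsUnitSystem e) {ι' : Type} [Fintype ι']
    [DecidableEq ι'] (φ : Matrix ι ι F →+* Matrix ι' ι' F) :
    IsUnitSystem fun i j => φ (e i j) := by
  refine ⟨fun i j k l => ?_, ?_⟩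
  · dsimp
    rw [← map_mul, h.1]
    split_ifs <;> simp
  · dsimp
    rw [← map_sum, h.2, map_one]

/-- A system of matrix units is, in suitable coordinates, the standard one tensored with an
identity matrix. -/
theorem exists_equiv_of_isUnitSystem [Nonempty κ] [Nonempty ι] {e : κ → κ → Matrix ι ι F}
    (he : IsUnitSystem e) :
    ∃ (b : ℕ) (L : (κ × Fin b → F) ≃ₗ[F] (ι → F)),
      0 < b ∧ Fintype.card ι = Fintype.card κ * b ∧
      ∀ i j, e i j = conjMat L (Matrix.single i j 1 ⊗ₖ (1 : Matrix (Fin b) (Fin b) F)) := by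
  obtain ⟨o⟩ := ‹Nonempty κ›
  set W : Submodule F (ι → F) := LinearMap.range (Matrix.toLin' (e o o)) with hW
  obtain ⟨b, ⟨w⟩⟩ : ∃ b, Nonempty (Module.Basis (Fin b) F W) :=
    ⟨_, ⟨Module.finBasis F W⟩⟩
  have heW : ∀ x : W, e o o *ᵥ (x : ι → F) = x := by
    rintro ⟨x, v, rfl⟩
    simp [Matrix.mulVec_mulVec, he.1]
  have hmemW : ∀ i v, e o i *ᵥ v ∈ W := fun i v =>
    ⟨e o i *ᵥ v, by simp [Matrix.mulVec_mulVec, he.1]⟩
  let toV : (κ × Fin b → F) →ₗ[F] (ι → F) :=
    ∑ i, (Matrix.toLin' (e i o)).comp (W.subtype.comp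
      (w.equivFun.symm.toLinearMap.comp (LinearMap.funLeft F F fun s : Fin b => (i, s))))
  let fromV : (ι → F) →ₗ[F] (κ × Fin b → F) :=
    LinearMap.pi fun p => (LinearMap.proj p.2).comp (w.equivFun.toLinearMap.comp
      ((Matrix.toLin' (e o p.1)).codRestrict W fun v => by
        simpa only [Matrix.toLin'_apply] using hmemW p.1 v))
  have toV_apply : ∀ x, toV x =
      ∑ i, e i o *ᵥ ((w.equivFun.symm fun s => x (i, s) : W) : ι → F) := fun x => by
    simp only [toV, LinearMap.sum_apply, LinearMap.comp_apply, Matrix.toLin'_apply]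
    rfl
  have fromV_apply : ∀ v p, fromV v p = w.equivFun ⟨e o p.1 *ᵥ v, hmemW p.1 v⟩ p.2 :=
    fun v p => rfl
  have hproj : ∀ (x : κ → W) (j : κ),
      e o j *ᵥ (∑ i, e i o *ᵥ (x i : ι → F)) = x j := fun x j => by
    rw [Matrix.mulVec_sum, Finset.sum_eq_single j]
    · simp [Matrix.mulVec_mulVec, he.1, heW]
    · intro i _ hij
      simp [Matrix.mulVec_mulVec, he.1, Ne.symm hij]
    · simp
  have h1 : fromV.comp toV = LinearMap.id := by
    refine LinearMap.ext fun x => funext fun p => ?_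
    rw [LinearMap.comp_apply, LinearMap.id_apply, fromV_apply]
    simp only [toV_apply, hproj, SetLike.eta, LinearEquiv.apply_symm_apply]
  have h2 : toV.comp fromV = LinearMap.id := by
    refine LinearMap.ext fun v => ?_
    rw [LinearMap.comp_apply, LinearMap.id_apply, toV_apply]
    have hround : ∀ i, w.equivFun.symm (fun s => fromV v (i, s)) = ⟨e o i *ᵥ v, hmemW i v⟩ :=
      fun i => by
        rw [show (fun s => fromV v (i, s)) = w.equivFun ⟨e o i *ᵥ v, hmemW i v⟩ from
          funext fun s => fromV_apply v (i, s)]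
        exact w.equivFun.symm_apply_apply _
    simp only [hround, Matrix.mulVec_mulVec, he.1, if_true, ← Matrix.sum_mulVec, he.2,
      Matrix.one_mulVec]
  let L : (κ × Fin b → F) ≃ₗ[F] (ι → F) := LinearEquiv.ofLinearMap toV fromV h2 h1
  have hcard : Fintype.card ι = Fintype.card κ * b := by
    have := L.finrank_eq
    simpa using this.symm
  refine ⟨b, L, ?_, hcard, fun i j => ?_⟩
  · rcases Nat.eq_zero_or_pos b with h0 | h0
    · rw [h0, mul_zero] at hcard
      exact absurd hcard Fintype.card_ne_zero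
    · exact h0
  · apply mat_ext_mulVec
    intro v
    obtain ⟨x, rfl⟩ := L.surjective v
    rw [conjMat_mulVec_apply]
    have hkr : ∀ k s, ((Matrix.single i j 1 ⊗ₖ (1 : Matrix (Fin b) (Fin b) F)) *ᵥ x) (k, s)
        = if k = i then x (j, s) else 0 := by
      intro k s
      simp only [Matrix.mulVec, dotProduct, Matrix.kroneckerMap_apply, Matrix.single_apply,
        Matrix.one_apply, Fintype.sum_prod_type]
      by_cases hki : k = i
      · subst hki
        simp [Finset.sum_ite_eq, ite_mul]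
      · simp [hki, Ne.symm hki]
    simp only [L, LinearEquiv.coe_ofLinearMap, toV_apply, hkr]
    rw [Matrix.mulVec_sum]
    simp only [Matrix.mulVec_mulVec, he.1]
    rw [Finset.sum_eq_single j (fun l _ hl => by simp [Ne.symm hl]) (by simp)]
    rw [Finset.sum_eq_single i (fun l _ hl => ?_) (by simp)]
    · simp
    · have : (fun s : Fin b => if l = i then x (j, s) else (0 : F)) = 0 := by
        funext s; simp [hl]
      simp [this]

/-- Matrix units indexed by a set of the same size as the space are conjugate to the standard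
ones. -/
theorem exists_equiv_of_isUnitSystem_full [Nonempty κ] [Nonempty ι] {e : κ → κ → Matrix ι ι F}
    (he : IsUnitSystem e) (hcard : Fintype.card ι = Fintype.card κ) :
    ∃ L : (κ → F) ≃ₗ[F] (ι → F), ∀ i j, e i j = conjMat L (Matrix.single i j 1) := by
  obtain ⟨b, L, hb, hcb, h⟩ := exists_equiv_of_isUnitSystem he
  have hb1 : b = 1 := by
    have hk : 0 < Fintype.card κ := Fintype.card_pos
    nlinarith
  subst hb1
  let π : κ ≃ κ × Fin 1 := (Equiv.prodUnique κ (Fin 1)).symm
  refine ⟨(LinearEquiv.funCongrLeft F F π).symm.trans L, fun i j => ?_⟩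
  rw [h]
  apply mat_ext_mulVec
  intro v
  rw [conjMat_mulVec, conjMat_mulVec, LinearEquiv.trans_apply]
  congr 1
  ext ⟨k, s⟩
  obtain rfl := Subsingleton.elim s 0
  simp [Matrix.mulVec, dotProduct, Fintype.sum_prod_type, LinearEquiv.funCongrLeft_apply,
    LinearMap.funLeft, π, Matrix.single_apply]

/-- Skolem-Noether for full matrix algebras over a field. -/
theorem exists_conj_of_algHom [Nonempty κ] [Nonempty ι]
    (φ ψ : Matrix κ κ F →ₐ[F] Matrix ι ι F) :
    ∃ B : GL ι F, ∀ X, φ X = (B : Matrix ι ι F) * ψ X * ((B⁻¹ : GL ι F) : Matrix ι ι F) := by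
  obtain ⟨b, L, -, hc, h⟩ :=
    exists_equiv_of_isUnitSystem (isUnitSystem_single.map (φ : Matrix κ κ F →+* Matrix ι ι F))
  obtain ⟨b', L', -, hc', h'⟩ :=
    exists_equiv_of_isUnitSystem (isUnitSystem_single.map (ψ : Matrix κ κ F →+* Matrix ι ι F))
  have hbb : b = b' := Nat.eq_of_mul_eq_mul_left Fintype.card_pos (hc.symm.trans hc')
  subst hbb
  obtain ⟨B, hB⟩ := exists_conj_conjMat L' L
  refine ⟨B, fun X => ?_⟩
  induction X using Matrix.induction_on' with
  | h_zero => simp
  | h_add p q hp hq => simp [map_add, hp, hq, mul_add, add_mul]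
  | h_std_basis i j x =>
    have hx : Matrix.single i j x = x • Matrix.single i j (1 : F) := by simp
    rw [hx, map_smul, map_smul, Matrix.mul_smul, Matrix.smul_mul]
    congr 1
    exact (h i j).trans ((hB _).trans (by rw [← h' i j]; rfl))

end Cfsg.Agent.GeoClasses
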