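import Mathlib
import Cfsg.Prelude.Def_GeometricClasses
import Cfsg.Agent.GeoClasses.Basic
import Cfsg.Agent.GeoClasses.MatrixUnits

/-!
Subalgebras of a matrix algebra over a finite field that are normalised by an irreducible group:
either their centre yields a block system, or their centre contains a field of prime degree, or
they are full matrix algebras over the base field.
-/

set_option autoImplicit false
set_option maxHeartbeats 400000

namespace Cfsg.Agent.GeoClasses

open Matrix Cfsg.Geo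
open scoped MatrixGroups Matrix Kronecker

section Abstract

variable {K R : Type*} [Field K] [Finite K] [Ring R] [Algebra K R]

lemma exists_idempotent_pow [Finite R] (x : R) : ∃ k : ℕ, 0 < k ∧ x ^ k * x ^ k = x ^ k := by
  obtain ⟨i, j, hij, h⟩ : ∃ i j : ℕ, i < j ∧ x ^ i = x ^ j := by
    obtain ⟨a, b, hab, he⟩ := Finite.exists_ne_map_eq_of_infinite (fun n : ℕ => x ^ n)
    rcases lt_or_gt_of_ne hab with h | h
    · exact ⟨a, b, h, he⟩
    · exact ⟨b, a, h, he.symm⟩
  set d := j - i with hd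
  have hper : ∀ l m : ℕ, i ≤ m → x ^ (m + l * d) = x ^ m := by
    intro l
    induction l with
    | zero => simp
    | succ l ih =>
      intro m hm
      rw [show m + (l + 1) * d = (m - i) + l * d + (i + d) by ring_nf; omega, pow_add,
        show i + d = j by omega, ← h, ← pow_add,
        show (m - i) + l * d + i = m + l * d by omega, ih m hm]
  refine ⟨(i + 1) * d, Nat.mul_pos (by omega) (by omega), ?_⟩
  rw [← pow_add]
  exact hper (i + 1) ((i + 1) * d) (by nlinarith [show 1 ≤ d by omega])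

/-- A semisimple algebra over a finite field with centre equal to the field is a matrix algebra. -/
lemma exists_matrix_algEquiv_of_central [Module.Finite K R] [Nontrivial R] [IsSemisimpleRing R]
    (hc : ∀ z : R, (∀ x, z * x = x * z) → ∃ c : K, z = algebraMap K R c) :
    ∃ a : ℕ, 0 < a ∧ Nonempty (Matrix (Fin a) (Fin a) K ≃ₐ[K] R) := by
  obtain ⟨n, D, d, _, _, _, hd, ⟨e⟩⟩ :=
    IsSemisimpleRing.exists_algEquiv_pi_matrix_divisionRing_finite K R
  have hn : 0 < n := by
    rcases Nat.eq_zero_or_pos n with h | h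
    · subst h
      haveI : Subsingleton R := e.toEquiv.subsingleton
      exact absurd ‹Nontrivial R› (not_nontrivial R)
    · exact h
  have hd' : ∀ i, 0 < d i := fun i => Nat.pos_of_ne_zero (hd i).ne
  have hsub : ∀ i j : Fin n, i = j := by
    intro i j
    by_contra hij
    set z := e.symm (Pi.single i 1) with hz
    have hzc : ∀ x, z * x = x * z := fun x => e.injective <| by
      rw [map_mul, map_mul, hz, e.apply_symm_apply]
      funext k
      by_cases hk : k = i
      · subst hk; simp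
      · simp [hk]
    obtain ⟨c, hcz⟩ := hc z hzc
    have h1 := congrArg e hcz
    rw [hz, e.apply_symm_apply, e.commutes] at h1
    have hi := congrFun (congrFun (congrFun h1 i) ⟨0, hd' i⟩) ⟨0, hd' i⟩
    have hj := congrFun (congrFun (congrFun h1 j) ⟨0, hd' j⟩) ⟨0, hd' j⟩
    simp [Matrix.algebraMap_matrix_apply, Ne.symm hij] at hi hj
    have hc0 : c = 0 := (map_eq_zero (algebraMap K (D j))).1 hj.symm
    simp [hc0] at hi
  obtain ⟨n', rfl⟩ : ∃ n', n = n' + 1 := ⟨n - 1, by omega⟩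
  let π : R →ₐ[K] Matrix (Fin (d 0)) (Fin (d 0)) (D 0) :=
    (Pi.evalAlgHom K (fun i => Matrix (Fin (d i)) (Fin (d i)) (D i)) 0).comp e.toAlgHom
  have hπ : Function.Bijective π := by
    refine ⟨fun x y hxy => e.injective (funext fun i => ?_), fun M => ?_⟩
    · obtain rfl := hsub 0 i
      exact hxy
    · exact ⟨e.symm (Pi.single 0 M), by simp [π]⟩
  let E := AlgEquiv.ofBijective π hπ
  haveI : Finite (D 0) := Module.finite_of_finite K
  have hcomm : ∀ x y : D 0, x * y = y * x := fun x y =>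
    @mul_comm (D 0) (littleWedderburn (D 0)).toCommRing.toCommSemigroup.toCommMagma x y
  have hD : Function.Bijective (Algebra.ofId K (D 0)) := by
    refine ⟨(algebraMap K (D 0)).injective, fun x => ?_⟩
    have hcen : ∀ y, E.symm (Matrix.scalar (Fin (d 0)) x) * y
        = y * E.symm (Matrix.scalar (Fin (d 0)) x) := fun y => E.injective <| by
      rw [map_mul, map_mul, E.apply_symm_apply]
      exact Matrix.scalar_commute x (fun r => hcomm x r) _
    obtain ⟨c, hcx⟩ := hc _ hcen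
    refine ⟨c, ?_⟩
    have h1 := congrArg E hcx
    rw [E.apply_symm_apply, E.commutes] at h1
    have h2 := congrFun (congrFun h1 ⟨0, hd' 0⟩) ⟨0, hd' 0⟩
    simpa [Matrix.algebraMap_matrix_apply] using h2.symm
  exact ⟨d 0, hd' 0, ⟨((AlgEquiv.ofBijective _ hD).mapMatrix).trans E.symm⟩⟩

end Abstract

variable {ι : Type} [Fintype ι] [DecidableEq ι] {F : Type*} [Field F]

/-- Conjugation by an invertible matrix. -/
def conjGL (g : GL ι F) : Matrix ι ι F ≃ₐ[F] Matrix ι ι F where
  toFun X := (g : Matrix ι ι F) * X * ((g⁻¹ : GL ι F) : Matrix ι ι F)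
  invFun X := ((g⁻¹ : GL ι F) : Matrix ι ι F) * X * (g : Matrix ι ι F)
  left_inv X := by simp [mul_assoc]
  right_inv X := by simp [mul_assoc]
  map_mul' X Y := by simp [mul_assoc]
  map_add' X Y := by simp [mul_add, add_mul]
  commutes' c := by simp [Algebra.algebraMap_eq_smul_one]

@[simp] lemma conjGL_apply (g : GL ι F) (X : Matrix ι ι F) :
    conjGL g X = (g : Matrix ι ι F) * X * ((g⁻¹ : GL ι F) : Matrix ι ι F) := rfl

lemma conjGL_mul (g h : GL ι F) (X : Matrix ι ι F) :
    conjGL (g * h) X = conjGL g (conjGL h X) := by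
  simp [mul_assoc]

lemma conjGL_one (X : Matrix ι ι F) : conjGL (1 : GL ι F) X = X := by simp

lemma conjGL_inv_apply (g : GL ι F) (X : Matrix ι ι F) : conjGL g (conjGL g⁻¹ X) = X := by
  simp [mul_assoc]

lemma conjGL_apply_inv (g : GL ι F) (X : Matrix ι ι F) : conjGL g⁻¹ (conjGL g X) = X := by
  simp [mul_assoc]

lemma conjGL_eq_self_iff (g : GL ι F) (X : Matrix ι ι F) :
    conjGL g X = X ↔ (g : Matrix ι ι F) * X = X * (g : Matrix ι ι F) := by
  constructor
  · intro h
    conv_rhs => rw [← h, conjGL_apply]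
    simp [mul_assoc]
  · intro h
    rw [conjGL_apply, h]
    simp [mul_assoc]

/-- `G` normalises the subalgebra `A`. -/
def Normalises (G : Subgroup (GL ι F)) (A : Subalgebra F (Matrix ι ι F)) : Prop :=
  ∀ g ∈ G, ∀ a ∈ A, conjGL g a ∈ A

/-- The centre of a subalgebra, as a subalgebra of the matrix algebra. -/
def centerIn (A : Subalgebra F (Matrix ι ι F)) : Subalgebra F (Matrix ι ι F) :=
  A ⊓ Subalgebra.centralizer F (A : Set (Matrix ι ι F))

lemma mem_centerIn {A : Subalgebra F (Matrix ι ι F)} {z : Matrix ι ι F} :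
    z ∈ centerIn A ↔ z ∈ A ∧ ∀ a ∈ A, a * z = z * a := by
  simp [centerIn, Subalgebra.mem_centralizer_iff]

lemma Normalises.centerIn {G : Subgroup (GL ι F)} {A : Subalgebra F (Matrix ι ι F)}
    (h : Normalises G A) : Normalises G (centerIn A) := by
  intro g hg z hz
  obtain ⟨hzA, hzc⟩ := mem_centerIn.1 hz
  refine mem_centerIn.2 ⟨h g hg z hzA, fun a ha => ?_⟩
  have hb := hzc _ (h g⁻¹ (G.inv_mem hg) a ha)
  have := congrArg (conjGL g) hb
  rwa [map_mul, map_mul, conjGL_inv_apply] at this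

lemma Normalises.le_subalgebraNormalizer {G : Subgroup (GL ι F)}
    {A : Subalgebra F (Matrix ι ι F)} (h : Normalises G A) : G ≤ subalgebraNormalizer A := by
  intro g hg k
  refine ⟨h g hg k, fun hk => ?_⟩
  have := h g⁻¹ (G.inv_mem hg) _ hk
  simpa [mul_assoc] using this

lemma toLin'_comm_map_le {g : GL ι F} {X : Matrix ι ι F}
    (h : (g : Matrix ι ι F) * X = X * (g : Matrix ι ι F)) :
    (LinearMap.range (Matrix.toLin' X)).map (Matrix.toLin' (g : Matrix ι ι F))
      ≤ LinearMap.range (Matrix.toLin' X) := by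
  rintro v ⟨w, ⟨u, rfl⟩, rfl⟩
  exact ⟨(g : Matrix ι ι F) *ᵥ u, by simp [Matrix.mulVec_mulVec, h]⟩

/-- An idempotent commuting with an irreducible group is zero or one. -/
lemma idempotent_eq_zero_or_one {G : Subgroup (GL ι F)} (hirr : ActsIrreducibly (matrixSet G))
    {e : Matrix ι ι F} (he : e * e = e) (hc : ∀ g ∈ G, conjGL g e = e) : e = 0 ∨ e = 1 := by
  rcases hirr (LinearMap.range (Matrix.toLin' e)) (by
    rintro s ⟨g, hg, rfl⟩
    exact toLin'_comm_map_le ((conjGL_eq_self_iff g e).1 (hc g hg))) with h | h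
  · left
    rw [LinearMap.range_eq_bot] at h
    simpa using h
  · right
    refine mat_ext_mulVec fun v => ?_
    obtain ⟨u, hu⟩ : v ∈ LinearMap.range (Matrix.toLin' e) := h ▸ Submodule.mem_top
    rw [← hu]
    simp [Matrix.mulVec_mulVec, he]

/-- A subspace killed by a normalised set of matrices is invariant. -/
lemma eq_zero_of_common_kernel {G : Subgroup (GL ι F)} (hirr : ActsIrreducibly (matrixSet G))
    (J : Set (Matrix ι ι F)) (hJ : ∀ g ∈ G, ∀ x ∈ J, conjGL g⁻¹ x ∈ J)
    (hv : ∃ v : ι → F, v ≠ 0 ∧ ∀ x ∈ J, x *ᵥ v = 0) : ∀ x ∈ J, x = 0 := by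
  set W : Submodule F (ι → F) := ⨅ x ∈ J, LinearMap.ker (Matrix.toLin' x) with hW
  have hmem : ∀ v, v ∈ W ↔ ∀ x ∈ J, x *ᵥ v = 0 := fun v => by simp [hW, Submodule.mem_iInf]
  have hinv : ∀ s ∈ matrixSet G, W.map (Matrix.toLin' s) ≤ W := by
    rintro s ⟨g, hg, rfl⟩ v ⟨w, hw, rfl⟩
    rw [hmem]
    intro x hx
    have := (hmem w).1 hw _ (hJ g hg x hx)
    have h2 := congrArg ((g : Matrix ι ι F) *ᵥ ·) this
    simpa [Matrix.mulVec_mulVec, mul_assoc] using h2
  rcases hirr W hinv with h | h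
  · obtain ⟨v, hv0, hv⟩ := hv
    have : v ∈ W := (hmem v).2 hv
    rw [h] at this
    exact absurd (by simpa using this) hv0
  · intro x hx
    refine mat_ext_mulVec fun v => ?_
    have : v ∈ W := h ▸ Submodule.mem_top
    simpa using (hmem v).1 this x hx

lemma exists_common_kernel_of_commute [Nonempty ι] (s : Finset (Matrix ι ι F))
    (hnil : ∀ x ∈ s, IsNilpotent x) (hcomm : ∀ x ∈ s, ∀ y ∈ s, x * y = y * x) :
    ∃ v : ι → F, v ≠ 0 ∧ ∀ x ∈ s, x *ᵥ v = 0 := by
  classical
  induction s using Finset.induction_on with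
  | empty => exact ⟨fun _ => 1, fun h => one_ne_zero (congrFun h (Classical.arbitrary ι)), by simp⟩
  | insert a s _ ih =>
    obtain ⟨v, hv0, hv⟩ := ih (fun x hx => hnil x (Finset.mem_insert_of_mem hx))
      (fun x hx y hy => hcomm x (Finset.mem_insert_of_mem hx) y (Finset.mem_insert_of_mem hy))
    obtain ⟨m, hm⟩ := hnil a (Finset.mem_insert_self a s)
    have hex : ∃ k, (a ^ k) *ᵥ v = 0 := ⟨m, by simp [hm]⟩
    have hk0 : Nat.find hex ≠ 0 := fun h => hv0 (by simpa [h] using Nat.find_spec hex)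
    refine ⟨(a ^ (Nat.find hex - 1)) *ᵥ v, Nat.find_min hex (by omega), fun x hx => ?_⟩
    rw [Matrix.mulVec_mulVec]
    rcases Finset.mem_insert.1 hx with rfl | hx'
    · rw [← pow_succ', show Nat.find hex - 1 + 1 = Nat.find hex by omega]
      exact Nat.find_spec hex
    · rw [(Commute.pow_right (hcomm x hx a (Finset.mem_insert_self a s)) _).eq,
        ← Matrix.mulVec_mulVec, hv x hx', Matrix.mulVec_zero]

/-- A system of minimal idempotents of the centre of `A`, permuted transitively by `G`. -/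
structure IsBlockSystem (G : Subgroup (GL ι F)) (A : Subalgebra F (Matrix ι ι F)) {t : ℕ}
    (e : Fin t → Matrix ι ι F) : Prop where
  two_le : 2 ≤ t
  mem : ∀ i, e i ∈ centerIn A
  idem : ∀ i, e i * e i = e i
  ne_zero : ∀ i, e i ≠ 0
  orth : ∀ i j, i ≠ j → e i * e j = 0
  sum_eq : ∑ i, e i = 1
  perm : ∀ g ∈ G, ∀ i, ∃ j, conjGL g (e i) = e j
  trans : ∀ i j, ∃ g ∈ G, conjGL g (e i) = e j
  atom : ∀ z ∈ centerIn A, z * z = z → ∀ i, z * e i = 0 ∨ z * e i = e i

variable [Finite F]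

lemma exists_blockSystem {G : Subgroup (GL ι F)} (hirr : ActsIrreducibly (matrixSet G))
    {A : Subalgebra F (Matrix ι ι F)} (hA : Normalises G A)
    (h : ∃ z ∈ centerIn A, z * z = z ∧ z ≠ 0 ∧ z ≠ 1) :
    ∃ (t : ℕ) (e : Fin t → Matrix ι ι F), IsBlockSystem G A e := by
  classical
  haveI : Fintype F := Fintype.ofFinite F
  set Z := centerIn A
  set P : ℕ → Prop := fun k =>
    ∃ e ∈ Z, e * e = e ∧ e ≠ 0 ∧ Module.finrank F (LinearMap.range (Matrix.toLin' e)) = k with hP
  obtain ⟨z, hz, hzz, hz0, hz1⟩ := h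
  have hex : ∃ k, P k := ⟨_, z, hz, hzz, hz0, rfl⟩
  obtain ⟨e₀, he₀, he₀₀, he₀n, he₀r⟩ := Nat.find_spec hex
  have hZcomm : ∀ x ∈ Z, ∀ y ∈ Z, x * y = y * x := fun x hx y hy =>
    (mem_centerIn.1 hy).2 x (mem_centerIn.1 hx).1
  have hatom : ∀ f ∈ Z, f * f = f → f * e₀ = 0 ∨ f * e₀ = e₀ := by
    intro f hf hff
    by_cases h0 : f * e₀ = 0
    · exact Or.inl h0
    refine Or.inr ?_
    have hid : (f * e₀) * (f * e₀) = f * e₀ := by
      rw [mul_assoc, ← mul_assoc e₀, hZcomm e₀ he₀ f hf, mul_assoc f e₀, he₀₀, ← mul_assoc, hff]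
    have hle : LinearMap.range (Matrix.toLin' (f * e₀)) ≤ LinearMap.range (Matrix.toLin' e₀) := by
      rw [hZcomm f hf e₀ he₀, Matrix.toLin'_mul]
      exact LinearMap.range_comp_le_range _ _
    have heq : LinearMap.range (Matrix.toLin' (f * e₀)) = LinearMap.range (Matrix.toLin' e₀) :=
      Submodule.eq_of_le_of_finrank_le hle
        (he₀r.le.trans (Nat.find_min' hex ⟨_, mul_mem hf he₀, hid, h0, rfl⟩))
    refine mat_ext_mulVec fun v => ?_
    obtain ⟨u, hu⟩ : Matrix.toLin' e₀ v ∈ LinearMap.range (Matrix.toLin' (f * e₀)) :=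
      heq ▸ LinearMap.mem_range_self _ _
    simp only [Matrix.toLin'_apply] at hu
    have : (f * e₀) *ᵥ (e₀ *ᵥ v) = e₀ *ᵥ v := by
      rw [← hu, Matrix.mulVec_mulVec, hid]
    rwa [Matrix.mulVec_mulVec, mul_assoc, he₀₀] at this
  haveI : Fintype G := Fintype.ofFinite G
  set O : Finset (Matrix ι ι F) := Finset.univ.image fun g : G => conjGL (g : GL ι F) e₀ with hO
  have hOmem : ∀ e, e ∈ O ↔ ∃ g ∈ G, conjGL g e₀ = e := fun e => by simp [hO]
  have hOZ : ∀ e ∈ O, e ∈ Z := fun e he => by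
    obtain ⟨g, hg, rfl⟩ := (hOmem e).1 he
    exact hA.centerIn g hg e₀ he₀
  have hOid : ∀ e ∈ O, e * e = e := fun e he => by
    obtain ⟨g, hg, rfl⟩ := (hOmem e).1 he
    rw [← map_mul, he₀₀]
  have hOne : ∀ e ∈ O, e ≠ 0 := fun e he => by
    obtain ⟨g, hg, rfl⟩ := (hOmem e).1 he
    simpa [-conjGL_apply] using he₀n
  have hOatom : ∀ e ∈ O, ∀ f ∈ Z, f * f = f → f * e = 0 ∨ f * e = e := fun e he f hf hff => by
    obtain ⟨g, hg, rfl⟩ := (hOmem e).1 he
    rcases hatom _ (hA.centerIn g⁻¹ (G.inv_mem hg) f hf) (by rw [← map_mul, hff]) with h | h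
    · left
      have := congrArg (conjGL g) h
      rwa [map_mul, conjGL_inv_apply, map_zero] at this
    · right
      have := congrArg (conjGL g) h
      rwa [map_mul, conjGL_inv_apply] at this
  have hOorth : ∀ e ∈ O, ∀ f ∈ O, e ≠ f → e * f = 0 := fun e he f hf hne => by
    rcases hOatom f hf e (hOZ e he) (hOid e he) with h1 | h1
    · exact h1
    rcases hOatom e he f (hOZ f hf) (hOid f hf) with h2 | h2
    · rw [hZcomm e (hOZ e he) f (hOZ f hf)]
      exact h2
    · rw [hZcomm f (hOZ f hf) e (hOZ e he)] at h2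
      exact absurd (h2.symm.trans h1) hne
  set s := ∑ e ∈ O, e with hs
  have hss : s * s = s := by
    rw [hs, Finset.sum_mul]
    refine Finset.sum_congr rfl fun e he => ?_
    rw [Finset.mul_sum, Finset.sum_eq_single e (fun f hf hne => hOorth e he f hf (Ne.symm hne))
      (fun h => absurd he h), hOid e he]
  have hsG : ∀ g ∈ G, conjGL g s = s := fun g hg => by
    rw [hs, map_sum]
    refine Finset.sum_bij' (fun e _ => conjGL g e) (fun e _ => conjGL g⁻¹ e) ?_ ?_
      (fun e _ => conjGL_apply_inv g e) (fun e _ => conjGL_inv_apply g e) (fun _ _ => rfl)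
    · intro e he
      obtain ⟨k, hk, rfl⟩ := (hOmem e).1 he
      exact (hOmem _).2 ⟨g * k, G.mul_mem hg hk, conjGL_mul g k e₀⟩
    · intro e he
      obtain ⟨k, hk, rfl⟩ := (hOmem e).1 he
      exact (hOmem _).2 ⟨g⁻¹ * k, G.mul_mem (G.inv_mem hg) hk, conjGL_mul g⁻¹ k e₀⟩
  have he₀O : e₀ ∈ O := (hOmem e₀).2 ⟨1, G.one_mem, conjGL_one e₀⟩
  have hs1 : s = 1 := by
    refine (idempotent_eq_zero_or_one hirr hss hsG).resolve_left fun h0 => he₀n ?_
    have : e₀ * s = e₀ := by
      rw [hs, Finset.mul_sum, Finset.sum_eq_single e₀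
        (fun f hf hne => hOorth e₀ he₀O f hf (Ne.symm hne)) (fun h => absurd he₀O h), he₀₀]
    rw [← this, h0, mul_zero]
  have he₀1 : e₀ ≠ 1 := by
    intro h
    rcases hatom z hz hzz with h' | h' <;> rw [h, mul_one] at h'
    · exact hz0 h'
    · exact hz1 h'
  have h2 : 2 ≤ O.card := by
    by_contra hlt
    have hsingle : O = {e₀} :=
      (Finset.eq_singleton_iff_unique_mem).2 ⟨he₀O, fun x hx => by
        by_contra hne
        have : ({x, e₀} : Finset _) ⊆ O := by simp [Finset.insert_subset_iff, hx, he₀O]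
        have := Finset.card_le_card this
        rw [Finset.card_pair hne] at this
        omega⟩
    rw [hs, hsingle, Finset.sum_singleton] at hs1
    exact he₀1 hs1
  let en : Fin O.card ≃ O := O.equivFin.symm
  have hen : ∀ {x}, x ∈ O → ∃ j, (en j : Matrix ι ι F) = x := fun {x} hx =>
    ⟨en.symm ⟨x, hx⟩, by simp⟩
  refine ⟨O.card, fun i => en i, h2, fun i => hOZ _ (en i).2, fun i => hOid _ (en i).2,
    fun i => hOne _ (en i).2,
    fun i j hij => hOorth _ (en i).2 _ (en j).2 fun h => hij (en.injective (Subtype.ext h)),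
    ?_, fun g hg i => ?_, fun i j => ?_, fun f hf hff i => hOatom _ (en i).2 f hf hff⟩
  · exact (en.sum_comp fun x => (x : Matrix ι ι F)).trans
      ((Finset.sum_coe_sort O fun x => x).trans (hs.symm.trans hs1))
  · obtain ⟨k, hk, he⟩ := (hOmem _).1 (en i).2
    obtain ⟨j, hj⟩ := hen ((hOmem (conjGL g (en i))).2
      ⟨g * k, G.mul_mem hg hk, by rw [conjGL_mul, he]⟩)
    exact ⟨j, hj.symm⟩
  · obtain ⟨k, hk, hek⟩ := (hOmem _).1 (en i).2
    obtain ⟨l, hl, hel⟩ := (hOmem _).1 (en j).2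
    exact ⟨l * k⁻¹, G.mul_mem hl (G.inv_mem hk), by
      rw [conjGL_mul, ← hek, conjGL_apply_inv, hel]⟩

omit [Finite F] in
lemma pow_natCard_eq_self {L : Type*} [Ring L] [IsDomain L] [Finite L] (x : L) :
    x ^ Nat.card L = x := by
  classical
  haveI : Fintype L := Fintype.ofFinite L
  letI : Field L := (Finite.isDomain_to_isField L).toField
  rw [Nat.card_eq_fintype_card]
  exact FiniteField.pow_card x

omit [Finite F] in
lemma set_eq_of_pow_card_eq {C : Type*} [CommRing C] [IsDomain C] [Finite C] {S T : Set C}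
    (h2 : 1 < S.ncard) (hcard : S.ncard = T.ncard) (hS : ∀ x ∈ S, x ^ S.ncard = x)
    (hT : ∀ x ∈ T, x ^ T.ncard = x) : S = T := by
  classical
  set N := S.ncard with hN
  set p : Polynomial C := Polynomial.X ^ N - Polynomial.X with hp
  have hdeg : p.natDegree = N := by
    rw [hp, Polynomial.natDegree_sub_eq_left_of_natDegree_lt] <;>
      simp [Polynomial.natDegree_X_pow, Polynomial.natDegree_X, h2]
  have hp0 : p ≠ 0 := fun h => by
    rw [h] at hdeg
    simp at hdeg
    omega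
  set R : Finset C := p.roots.toFinset with hR
  have hRcard : R.card ≤ N :=
    (Multiset.toFinset_card_le _).trans ((Polynomial.card_roots' _).trans hdeg.le)
  have key : ∀ U : Set C, U.ncard = N → (∀ x ∈ U, x ^ U.ncard = x) → U = ↑R := by
    intro U hU hx
    refine Set.eq_of_subset_of_ncard_le (fun x hxU => ?_)
      (by rw [Set.ncard_coe_finset, hU]; exact hRcard)
    have := hx x hxU
    rw [hU] at this
    rw [hR, Finset.mem_coe, Multiset.mem_toFinset, Polynomial.mem_roots hp0, hp]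
    simp [this]
  rw [key S rfl hS, key T hcard.symm hT]

/-- Finite subalgebras of a commutative subalgebra without zero divisors are determined by their
cardinality. -/
lemma subalgebra_eq_of_card {C K K' : Subalgebra F (Matrix ι ι F)}
    (hC : ∀ x ∈ C, ∀ y ∈ C, x * y = y * x) (hC0 : ∀ x ∈ C, ∀ y ∈ C, x * y = 0 → x = 0 ∨ y = 0)
    (hne : Nonempty ι) (hK : K ≤ C) (hK' : K' ≤ C) (hcard : Nat.card K = Nat.card K') :
    K = K' := by
  classical
  letI : CommRing C := { (inferInstance : Ring C) with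
    mul_comm := fun x y => Subtype.ext (hC x x.2 y y.2) }
  haveI hnt : Nontrivial C := ⟨0, 1, fun h => zero_ne_one (congrArg Subtype.val h)⟩
  haveI hnz : NoZeroDivisors C := ⟨fun {x y} h => by
    rcases hC0 x x.2 y y.2 (congrArg Subtype.val h) with h | h
    · exact Or.inl (Subtype.ext h)
    · exact Or.inr (Subtype.ext h)⟩
  haveI : IsDomain C := NoZeroDivisors.to_isDomain C
  have key : ∀ L : Subalgebra F (Matrix ι ι F), L ≤ C →
      (Subtype.val ⁻¹' (L : Set (Matrix ι ι F)) : Set C).ncard = Nat.card L ∧ 1 < Nat.card L ∧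
      ∀ x : C, (x : Matrix ι ι F) ∈ L → x ^ Nat.card L = x := by
    intro L hL
    haveI : Nontrivial L := ⟨0, 1, fun h => zero_ne_one (congrArg Subtype.val h)⟩
    haveI : NoZeroDivisors L := ⟨fun {a b} h => by
      rcases hC0 a (hL a.2) b (hL b.2) (congrArg Subtype.val h) with h | h
      · exact Or.inl (Subtype.ext h)
      · exact Or.inr (Subtype.ext h)⟩
    haveI : IsDomain L := NoZeroDivisors.to_isDomain L
    refine ⟨?_, Finite.one_lt_card, fun x hx => ?_⟩
    · rw [← Nat.card_coe_set_eq]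
      exact Nat.card_congr ⟨fun x => ⟨x.1.1, x.2⟩, fun y => ⟨⟨y.1, hL y.2⟩, y.2⟩,
        fun x => rfl, fun y => rfl⟩
    · have h := congrArg (Subtype.val) (pow_natCard_eq_self (⟨x, hx⟩ : L))
      exact Subtype.ext (by simpa using h)
  obtain ⟨h1, h1', h1''⟩ := key K hK
  obtain ⟨h2, -, h2''⟩ := key K' hK'
  have h := set_eq_of_pow_card_eq (C := C) (S := Subtype.val ⁻¹' (K : Set (Matrix ι ι F)))
    (T := Subtype.val ⁻¹' (K' : Set (Matrix ι ι F))) (by rw [h1]; exact h1')
    (h1.trans (hcard.trans h2.symm))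
    (fun x hx => by rw [h1]; exact h1'' x hx) (fun x hx => by rw [h2]; exact h2'' x hx)
  ext z
  constructor
  · intro hz
    have hh : (⟨z, hK hz⟩ : C) ∈ (Subtype.val ⁻¹' (K : Set (Matrix ι ι F)) : Set C) := hz
    rwa [h] at hh
  · intro hz
    have hh : (⟨z, hK' hz⟩ : C) ∈ (Subtype.val ⁻¹' (K' : Set (Matrix ι ι F)) : Set C) := hz
    rwa [← h] at hh

/-- A commutative subalgebra without zero divisors of dimension at least 2 contains a field
subalgebra of prime degree. -/
lemma exists_fieldSubalgebra (hne : Nonempty ι) {C : Subalgebra F (Matrix ι ι F)}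
    (hC : ∀ x ∈ C, ∀ y ∈ C, x * y = y * x) (hC0 : ∀ x ∈ C, ∀ y ∈ C, x * y = 0 → x = 0 ∨ y = 0)
    (hdim : ∃ z ∈ C, ∀ c : F, z ≠ c • (1 : Matrix ι ι F)) :
    ∃ (r : ℕ) (K : Subalgebra F (Matrix ι ι F)), r.Prime ∧ IsFieldSubalgebra r K ∧ K ≤ C := by
  classical
  haveI : Fintype F := Fintype.ofFinite F
  letI : CommRing C := { (inferInstance : Ring C) with
    mul_comm := fun x y => Subtype.ext (hC x x.2 y y.2) }
  haveI : Nontrivial C := ⟨0, 1, fun h => zero_ne_one (congrArg Subtype.val h)⟩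
  haveI : NoZeroDivisors C := ⟨fun {x y} h => by
    rcases hC0 x x.2 y y.2 (congrArg Subtype.val h) with h | h
    · exact Or.inl (Subtype.ext h)
    · exact Or.inr (Subtype.ext h)⟩
  haveI : IsDomain C := NoZeroDivisors.to_isDomain C
  haveI : Fintype C := Fintype.ofFinite C
  letI : Field C := Fintype.fieldOfDomain C
  letI : Algebra F C := Subalgebra.algebra C
  set d := Module.finrank F C with hd
  have hd1 : d ≠ 1 := by
    intro h
    obtain ⟨z, hz, hne'⟩ := hdim
    obtain ⟨c, hc⟩ :=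
      (finrank_eq_one_iff_of_nonzero' (1 : C) one_ne_zero).1 h ⟨z, hz⟩
    exact hne' c (congrArg Subtype.val hc).symm
  obtain ⟨r, hr, hrd⟩ := Nat.exists_prime_and_dvd hd1
  set fr := FiniteField.frobeniusAlgEquivOfAlgebraic F C with hfr
  have hdpos : 0 < d := Module.finrank_pos
  have hord : orderOf (fr ^ r) = d / r := by
    rw [orderOf_pow' fr hr.ne_zero, hfr, FiniteField.orderOf_frobeniusAlgEquivOfAlgebraic,
      ← hd, Nat.gcd_eq_right hrd]
  set H := Subgroup.zpowers (fr ^ r)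
  set K₀ := IntermediateField.fixedField H
  have hK₀ : Module.finrank F K₀ = r := by
    have h1 := IntermediateField.finrank_fixedField_eq_card H
    have h2 := Module.finrank_mul_finrank F K₀ C
    rw [h1, Nat.card_zpowers, hord, ← hd] at h2
    have hpos : 0 < d / r := Nat.div_pos (Nat.le_of_dvd hdpos hrd) hr.pos
    have h3 : r * (d / r) = d := Nat.mul_div_cancel' hrd
    exact Nat.eq_of_mul_eq_mul_right hpos (h2.trans h3.symm)
  refine ⟨r, K₀.toSubalgebra.map C.val, hr, ⟨?_, ?_, ?_⟩, ?_⟩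
  · rintro _ ⟨x, -, rfl⟩ _ ⟨y, -, rfl⟩
    exact hC x x.2 y y.2
  · rintro _ ⟨x, hx, rfl⟩ hx0
    refine ⟨((x⁻¹ : C) : Matrix ι ι F), ⟨x⁻¹, K₀.inv_mem hx, rfl⟩, ?_⟩
    have hxne : x ≠ 0 := fun h => hx0 (by simp [h])
    exact congrArg Subtype.val (mul_inv_cancel₀ hxne)
  · rw [← hK₀]
    exact ((Subalgebra.equivMapOfInjective K₀.toSubalgebra C.val
      Subtype.val_injective).toLinearEquiv.finrank_eq).symm
  · rintro _ ⟨x, -, rfl⟩
    exact x.2

/-- The trichotomy for a normalised subalgebra. -/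
theorem normalised_subalgebra_cases [Nonempty ι] {G : Subgroup (GL ι F)}
    (hirr : ActsIrreducibly (matrixSet G)) {A : Subalgebra F (Matrix ι ι F)}
    (hA : Normalises G A) :
    (∃ (t : ℕ) (e : Fin t → Matrix ι ι F), IsBlockSystem G A e) ∨
    (∃ (r : ℕ) (K : Subalgebra F (Matrix ι ι F)), r.Prime ∧ IsFieldSubalgebra r K ∧
      K ≤ centerIn A ∧ G ≤ subalgebraNormalizer K ∧
      ∀ K' : Subalgebra F (Matrix ι ι F), K' ≤ centerIn A → Nat.card K' = Nat.card K → K' = K) ∨
    (∃ (a : ℕ) (φ : Matrix (Fin a) (Fin a) F →ₐ[F] Matrix ι ι F),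
      0 < a ∧ Function.Injective φ ∧ φ.range = A) := by
  classical
  haveI : Fintype F := Fintype.ofFinite F
  set Z := centerIn A with hZ
  have hne : Nonempty ι := inferInstance
  have hZcomm : ∀ x ∈ Z, ∀ y ∈ Z, x * y = y * x := fun x hx y hy =>
    (mem_centerIn.1 hy).2 x (mem_centerIn.1 hx).1
  have hred : ∀ x ∈ Z, IsNilpotent x → x = 0 := by
    intro x hx hnil
    refine eq_zero_of_common_kernel hirr {z | z ∈ Z ∧ IsNilpotent z}
      (fun g hg z hz => ⟨hA.centerIn g⁻¹ (G.inv_mem hg) z hz.1, hz.2.map (conjGL g⁻¹)⟩)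
      ?_ x ⟨hx, hnil⟩
    haveI : Fintype {z | z ∈ Z ∧ IsNilpotent z} := Fintype.ofFinite _
    obtain ⟨v, hv0, hv⟩ := exists_common_kernel_of_commute
      ({z | z ∈ Z ∧ IsNilpotent z}.toFinset)
      (fun z hz => (Set.mem_toFinset.1 hz).2)
      (fun y hy z hz => hZcomm y (Set.mem_toFinset.1 hy).1 z (Set.mem_toFinset.1 hz).1)
    exact ⟨v, hv0, fun z hz => hv z (Set.mem_toFinset.2 hz)⟩
  by_cases hidem : ∃ z ∈ Z, z * z = z ∧ z ≠ 0 ∧ z ≠ 1
  · exact Or.inl (exists_blockSystem hirr hA hidem)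
  push Not at hidem
  have hunit : ∀ x ∈ Z, x ≠ 0 → IsUnit x := by
    intro x hx hx0
    obtain ⟨k, hk, hk2⟩ := exists_idempotent_pow (R := Matrix ι ι F) x
    have hk0 : x ^ k ≠ 0 := fun h => hx0 (hred x hx ⟨k, h⟩)
    exact IsUnit.of_pow_eq_one (hidem _ (Z.pow_mem hx k) hk2 hk0) hk.ne'
  have hZ0 : ∀ x ∈ Z, ∀ y ∈ Z, x * y = 0 → x = 0 ∨ y = 0 := fun x hx y _ hxy =>
    or_iff_not_imp_left.2 fun hx0 => (hunit x hx hx0).mul_right_eq_zero.1 hxy
  right
  by_cases hdim : ∃ z ∈ Z, ∀ c : F, z ≠ c • (1 : Matrix ι ι F)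
  · left
    obtain ⟨r, K, hr, hK, hKZ⟩ := exists_fieldSubalgebra hne hZcomm hZ0 hdim
    have huniq : ∀ K' : Subalgebra F (Matrix ι ι F), K' ≤ Z → Nat.card K' = Nat.card K → K' = K :=
      fun K' hK' hc => subalgebra_eq_of_card hZcomm hZ0 hne hK' hKZ hc
    refine ⟨r, K, hr, hK, hKZ, Normalises.le_subalgebraNormalizer fun g hg a ha => ?_, huniq⟩
    have hmap : K.map (conjGL g).toAlgHom = K := huniq _
      (by rintro _ ⟨x, hx, rfl⟩; exact hA.centerIn g hg x (hKZ hx))
      (Nat.card_congr (Subalgebra.equivMapOfInjective K _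
        (conjGL g).injective).toEquiv.symm)
    rw [← hmap]
    exact ⟨a, ha, rfl⟩
  right
  push Not at hdim
  haveI : Nontrivial A := ⟨0, 1, fun h => zero_ne_one (congrArg Subtype.val h)⟩
  haveI : Finite A := inferInstance
  haveI : IsArtinianRing A := inferInstance
  haveI : IsSemisimpleRing A := by
    rw [IsArtinianRing.isSemisimpleRing_iff_jacobson]
    obtain ⟨k, hk⟩ := (inferInstance : IsSemiprimaryRing A).isNilpotent
    set J := Ring.jacobson A with hJ
    have hex : ∃ v : ι → F, v ≠ 0 ∧ ∀ x ∈ ((fun a : A => (a : Matrix ι ι F)) '' J), x *ᵥ v = 0 := by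
      by_contra hno
      push Not at hno
      obtain ⟨v, hv0⟩ : ∃ v : ι → F, v ≠ 0 :=
        ⟨fun _ => 1, fun h => one_ne_zero (congrFun h (Classical.arbitrary ι))⟩
      have hstep : ∀ m : ℕ, ∃ y ∈ J ^ m, (y : Matrix ι ι F) *ᵥ v ≠ 0 := by
        intro m
        induction m with
        | zero => exact ⟨1, by rw [Submodule.pow_zero, Ideal.one_eq_top]; exact Submodule.mem_top,
            by simpa using hv0⟩
        | succ m ih =>
          obtain ⟨y, hy, hyv⟩ := ih
          obtain ⟨_, ⟨x, hx, rfl⟩, hxv⟩ := hno _ hyv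
          refine ⟨x * y, ?_, by simpa [Matrix.mulVec_mulVec] using hxv⟩
          haveI : J.IsTwoSided := by rw [hJ]; infer_instance
          rw [Ideal.IsTwoSided.pow_succ]
          exact Ideal.mul_mem_mul hx hy
      obtain ⟨y, hy, hyv⟩ := hstep k
      rw [hk] at hy
      simp [Submodule.zero_eq_bot, Submodule.mem_bot] at hy
      simp [hy] at hyv
    have hinv : ∀ g ∈ G, ∀ x ∈ ((fun a : A => (a : Matrix ι ι F)) '' J),
        conjGL g⁻¹ x ∈ ((fun a : A => (a : Matrix ι ι F)) '' J) := by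
      rintro g hg _ ⟨a, ha, rfl⟩
      let c : A →+* A := RingHom.codRestrict
        (((conjGL g⁻¹).toAlgHom.comp A.val).toRingHom) A
        (fun a => hA g⁻¹ (G.inv_mem hg) a a.2)
      haveI : RingHomSurjective c := ⟨fun b =>
        ⟨⟨conjGL g b, hA g hg b b.2⟩, Subtype.ext (conjGL_apply_inv g (b : Matrix ι ι F))⟩⟩
      exact ⟨c a, Ring.le_comap_jacobson c ha, rfl⟩
    have hall := eq_zero_of_common_kernel hirr _ hinv hex
    rw [eq_bot_iff]
    intro a ha
    exact Subtype.ext (hall _ ⟨a, ha, rfl⟩)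
  obtain ⟨a, ha, ⟨E⟩⟩ := exists_matrix_algEquiv_of_central (K := F) (R := A) (fun z hz => by
    obtain ⟨c, hc⟩ := hdim z (mem_centerIn.2
      ⟨z.2, fun x hx => (congrArg Subtype.val (hz ⟨x, hx⟩)).symm⟩)
    exact ⟨c, Subtype.ext (by rw [hc]; simp [Algebra.algebraMap_eq_smul_one])⟩)
  refine ⟨a, A.val.comp E.toAlgHom, ha, Subtype.val_injective.comp E.injective, ?_⟩
  rw [AlgHom.range_comp, (AlgHom.range_eq_top (E.toAlgHom)).2 E.surjective, Algebra.map_top,
    Subalgebra.range_val]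

/-- The matrix algebra spanned by a group. -/
def spanAlg (R : Subgroup (GL ι F)) : Subalgebra F (Matrix ι ι F) :=
  Algebra.adjoin F (matrixSet R)

omit [Finite F] in
lemma spanAlg_toSubmodule (R : Subgroup (GL ι F)) :
    (spanAlg R).toSubmodule = Submodule.span F (matrixSet R) := by
  rw [spanAlg, Algebra.adjoin_eq_span]
  congr 1
  refine Set.Subset.antisymm (fun x hx => ?_) Submonoid.subset_closure
  induction hx using Submonoid.closure_induction with
  | mem x hx => exact hx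
  | one => exact ⟨1, R.one_mem, rfl⟩
  | mul x y _ _ hx hy =>
    obtain ⟨g, hg, rfl⟩ := hx
    obtain ⟨h, hh, rfl⟩ := hy
    exact ⟨g * h, R.mul_mem hg hh, rfl⟩

omit [Finite F] in
lemma normalises_spanAlg {G N : Subgroup (GL ι F)}
    (hN : ∀ g ∈ G, ∀ x ∈ N, g * x * g⁻¹ ∈ N) : Normalises G (spanAlg N) := by
  intro g hg a ha
  have : (spanAlg N).map (conjGL g).toAlgHom ≤ spanAlg N := by
    rw [spanAlg, AlgHom.map_adjoin]
    refine Algebra.adjoin_mono ?_
    rintro _ ⟨_, ⟨x, hx, rfl⟩, rfl⟩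
    exact ⟨g * x * g⁻¹, hN g hg x hx, by simp⟩
  exact this ⟨a, ha, rfl⟩

omit [Finite F] in
lemma kronecker_single_comm {a b : ℕ} (i : Fin b) (Y : Matrix (Fin a) (Fin a) F) :
    ((1 : Matrix (Fin a) (Fin a) F) ⊗ₖ Matrix.single i i (1 : F)) * (Y ⊗ₖ (1 : Matrix (Fin b) (Fin b) F))
      = (Y ⊗ₖ (1 : Matrix (Fin b) (Fin b) F)) * ((1 : Matrix (Fin a) (Fin a) F) ⊗ₖ Matrix.single i i (1 : F)) := by
  rw [← Matrix.mul_kronecker_mul, ← Matrix.mul_kronecker_mul]
  simp

omit [Finite F] in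
lemma conjMat_kronecker_one {a b : ℕ} {φ : Matrix (Fin a) (Fin a) F →ₐ[F] Matrix ι ι F}
    {L : (Fin a × Fin b → F) ≃ₗ[F] (ι → F)}
    (h : ∀ i j, φ (Matrix.single i j 1)
      = conjMat L (Matrix.single i j 1 ⊗ₖ (1 : Matrix (Fin b) (Fin b) F)))
    (Y : Matrix (Fin a) (Fin a) F) :
    φ Y = conjMat L (Y ⊗ₖ (1 : Matrix (Fin b) (Fin b) F)) := by
  induction Y using Matrix.induction_on' with
  | h_zero => simp
  | h_add p q hp hq => simp [map_add, hp, hq, Matrix.add_kronecker]
  | h_std_basis i j x =>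
    have hx : Matrix.single i j x = x • Matrix.single i j (1 : F) := by simp
    rw [hx, map_smul, Matrix.smul_kronecker, map_smul, h]

/-- A full matrix subalgebra is, in suitable coordinates, `M_a ⊗ 1`. -/
lemma exists_coords [Nonempty ι] {a : ℕ} (ha : 0 < a)
    (φ : Matrix (Fin a) (Fin a) F →ₐ[F] Matrix ι ι F) :
    ∃ (b : ℕ) (L : (Fin a × Fin b → F) ≃ₗ[F] (ι → F)), 0 < b ∧ Fintype.card ι = a * b ∧
      ∀ Y, φ Y = conjMat L (Y ⊗ₖ (1 : Matrix (Fin b) (Fin b) F)) := by
  haveI : Nonempty (Fin a) := ⟨⟨0, ha⟩⟩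
  obtain ⟨b, L, hb, hc, h⟩ := exists_equiv_of_isUnitSystem
    (isUnitSystem_single.map (φ : Matrix (Fin a) (Fin a) F →+* Matrix ι ι F))
  exact ⟨b, L, hb, by simpa using hc, conjMat_kronecker_one h⟩

/-- Burnside's theorem: an absolutely irreducible group spans the whole matrix algebra. -/
theorem spanAlg_eq_top [Nonempty ι] {R : Subgroup (GL ι F)}
    (h : ActsAbsolutelyIrreducibly (matrixSet R)) : spanAlg R = ⊤ := by
  have hN : Normalises R (spanAlg R) :=
    normalises_spanAlg fun g hg x hx => R.mul_mem (R.mul_mem hg hx) (R.inv_mem hg)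
  have hmem : ∀ s ∈ matrixSet R, s ∈ spanAlg R := fun s hs => Algebra.subset_adjoin hs
  have hscal : ∀ z, (∀ a ∈ spanAlg R, a * z = z * a) → ∃ c : F, z = c • (1 : Matrix ι ι F) :=
    fun z hz => h.2 z fun s hs => (hz s (hmem s hs)).symm
  rcases normalised_subalgebra_cases h.1 hN with ⟨t, e, he⟩ | ⟨r, K, hr, hK, hKZ, -, -⟩ |
      ⟨a, φ, ha, hinj, hrange⟩
  · exfalso
    obtain ⟨c, hc⟩ := hscal _ (mem_centerIn.1 (he.mem ⟨0, by have := he.two_le; omega⟩)).2
    have h01 : (⟨0, by have := he.two_le; omega⟩ : Fin t) ≠ ⟨1, by have := he.two_le; omega⟩ := by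
      simp
    have hi := he.idem ⟨0, by have := he.two_le; omega⟩
    have ho := he.orth _ _ h01
    have hn := he.ne_zero ⟨0, by have := he.two_le; omega⟩
    rw [hc] at ho hn
    have hc0 : c ≠ 0 := fun h => hn (by simp [h])
    have := congrArg (c⁻¹ • ·) ho
    simp [smul_smul, hc0] at this
    exact he.ne_zero _ this
  · exfalso
    have hle : K ≤ (⊥ : Subalgebra F (Matrix ι ι F)) := by
      intro k hk
      obtain ⟨c, rfl⟩ := hscal k (mem_centerIn.1 (hKZ hk)).2
      exact Algebra.mem_bot.2 ⟨c, by simp [Algebra.algebraMap_eq_smul_one]⟩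
    have := hK.finrank_eq
    rw [le_bot_iff.1 hle, Subalgebra.finrank_bot] at this
    exact hr.one_lt.ne this
  · obtain ⟨b, L, hb, -, hL⟩ := exists_coords ha φ
    have hb1 : b = 1 := by
      by_contra hb1
      have hb2 : 2 ≤ b := by omega
      set z := conjMat L ((1 : Matrix (Fin a) (Fin a) F) ⊗ₖ
        Matrix.single (⟨0, hb⟩ : Fin b) ⟨0, hb⟩ (1 : F)) with hz
      obtain ⟨c, hc⟩ := hscal z fun x hx => by
        rw [← hrange] at hx
        obtain ⟨Y, rfl⟩ := hx
        show φ Y * z = z * φ Y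
        rw [hL, hz, ← map_mul, ← map_mul, kronecker_single_comm]
      have hc' : conjMat L ((1 : Matrix (Fin a) (Fin a) F) ⊗ₖ
          Matrix.single (⟨0, hb⟩ : Fin b) ⟨0, hb⟩ (1 : F)) = conjMat L (c • 1) := by
        rw [map_smul, map_one, ← hc]
      have heq := (conjMat L).injective hc'
      have h0 := congrFun (congrFun heq (⟨0, ha⟩, ⟨0, hb⟩)) (⟨0, ha⟩, ⟨0, hb⟩)
      have h1 := congrFun (congrFun heq (⟨0, ha⟩, ⟨1, hb2⟩)) (⟨0, ha⟩, ⟨1, hb2⟩)
      simp [Matrix.single_apply] at h0 h1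
      rw [← h0] at h1
      simp at h1
    subst hb1
    rw [← hrange, eq_top_iff]
    intro X _
    set Y : Matrix (Fin a) (Fin a) F := fun i j => ((conjMat L).symm X) (i, 0) (j, 0) with hY
    refine ⟨Y, ?_⟩
    show φ Y = X
    rw [hL]
    conv_rhs => rw [← (conjMat L).apply_symm_apply X]
    congr 1
    ext ⟨i, s⟩ ⟨j, u⟩
    obtain rfl := Subsingleton.elim s 0
    obtain rfl := Subsingleton.elim u 0
    show Y i j * (1 : Matrix (Fin 1) (Fin 1) F) 0 0 = _
    rw [Matrix.one_apply_eq, mul_one]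

end Cfsg.Agent.GeoClasses
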