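import Mathlib
import Cfsg.Prelude.Def_GeometricClasses
import Cfsg.Agent.GeoClasses.Basic
import Cfsg.Agent.GeoClasses.MatrixUnits
import Cfsg.Agent.GeoClasses.Algebra

/-!
Sesquilinear forms through their Gram matrices: invariance, uniqueness up to scalars for absolutely
irreducible groups, and the similarity groups of the Prelude.
-/

set_option autoImplicit false
set_option maxHeartbeats 400000

namespace Cfsg.Agent.GeoClasses

open Matrix Cfsg.Geo
open scoped MatrixGroups Matrix Kronecker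

variable {ι : Type} [Fintype ι] [DecidableEq ι] {F : Type*} [Field F]

/-- The form `(u, v) ↦ uᵀ B σ(v)`. -/
def formOf (σ : F ≃+* F) (B : Matrix ι ι F) (u v : ι → F) : F := u ⬝ᵥ (B *ᵥ fun i => σ (v i))

/-- The transported Gram matrix `gᵀ B σ(g)`. -/
def adjForm (σ : F ≃+* F) (B g : Matrix ι ι F) : Matrix ι ι F := gᵀ * B * g.map σ

/-- The twisted transpose of a Gram matrix. -/
def starMat (σ : F ≃+* F) (B : Matrix ι ι F) : Matrix ι ι F := (B.map σ)ᵀ

/-- `g` multiplies the form with Gram matrix `B` by `μ`. -/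
def IsSim (σ : F ≃+* F) (B : Matrix ι ι F) (g : GL ι F) (μ : F) : Prop :=
  adjForm σ B (g : Matrix ι ι F) = μ • B

lemma map_mulVec_ringEquiv (σ : F ≃+* F) (g : Matrix ι ι F) (v : ι → F) :
    (fun i => σ ((g *ᵥ v) i)) = g.map σ *ᵥ fun i => σ (v i) := by
  ext i
  simp [Matrix.mulVec, dotProduct, map_sum]

lemma formOf_mulVec (σ : F ≃+* F) (B g : Matrix ι ι F) (u v : ι → F) :
    formOf σ B (g *ᵥ u) (g *ᵥ v) = formOf σ (adjForm σ B g) u v := by
  simp only [formOf, adjForm, map_mulVec_ringEquiv, Matrix.mulVec_mulVec, mul_assoc]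
  rw [← Matrix.mulVec_mulVec, dotProduct_comm, Matrix.dotProduct_mulVec,
    ← Matrix.mulVec_transpose, dotProduct_comm]
  simp [Matrix.mulVec_mulVec]

lemma formOf_single (σ : F ≃+* F) (B : Matrix ι ι F) (a b : ι) :
    formOf σ B (Pi.single a 1) (Pi.single b 1) = B a b := by
  have : (fun i => σ ((Pi.single b (1 : F) : ι → F) i)) = Pi.single b 1 := by
    ext i
    by_cases h : i = b <;> simp [h]
  simp [formOf, this]

lemma formOf_injective {σ : F ≃+* F} {B B' : Matrix ι ι F}
    (h : ∀ u v, formOf σ B u v = formOf σ B' u v) : B = B' := by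
  ext a b
  rw [← formOf_single σ B a b, h, formOf_single]

lemma formOf_smul (σ : F ≃+* F) (c : F) (B : Matrix ι ι F) (u v : ι → F) :
    formOf σ (c • B) u v = c * formOf σ B u v := by
  simp [formOf, Matrix.smul_mulVec, dotProduct_smul]

lemma adjForm_mul (σ : F ≃+* F) (B g h : Matrix ι ι F) :
    adjForm σ B (g * h) = adjForm σ (adjForm σ B g) h := by
  simp [adjForm, Matrix.transpose_mul, Matrix.map_mul, mul_assoc]

lemma adjForm_one (σ : F ≃+* F) (B : Matrix ι ι F) : adjForm σ B 1 = B := by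
  simp [adjForm, Matrix.map_one]

lemma adjForm_smul_left (σ : F ≃+* F) (c : F) (B g : Matrix ι ι F) :
    adjForm σ (c • B) g = c • adjForm σ B g := by
  simp [adjForm]

lemma adjForm_smul_right (σ : F ≃+* F) (c : F) (B g : Matrix ι ι F) :
    adjForm σ B (c • g) = (c * σ c) • adjForm σ B g := by
  simp [adjForm, Matrix.map_smul', smul_smul, mul_comm]

lemma IsSim.mul {σ : F ≃+* F} {B : Matrix ι ι F} {g h : GL ι F} {μ ν : F}
    (hg : IsSim σ B g μ) (hh : IsSim σ B h ν) : IsSim σ B (g * h) (μ * ν) := by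
  unfold IsSim at *
  rw [Units.val_mul, adjForm_mul, hg, adjForm_smul_left, hh, smul_smul]

lemma IsSim.one (σ : F ≃+* F) (B : Matrix ι ι F) : IsSim σ B (1 : GL ι F) 1 := by
  simp [IsSim, adjForm_one]

lemma IsSim.ne_zero {σ : F ≃+* F} {B : Matrix ι ι F} (hB : IsUnit B) [Nonempty ι] {g : GL ι F}
    {μ : F} (hg : IsSim σ B g μ) : μ ≠ 0 := by
  intro h0
  have hu : IsUnit (adjForm σ B (g : Matrix ι ι F)) := by
    refine ((Matrix.isUnit_transpose _).2 g.isUnit).mul hB |>.mul ?_
    exact g.isUnit.map σ.toRingHom.mapMatrix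
  rw [hg, h0, zero_smul] at hu
  exact not_isUnit_zero hu

lemma IsSim.inv {σ : F ≃+* F} {B : Matrix ι ι F} {g : GL ι F} {μ : F} (hμ : μ ≠ 0)
    (hg : IsSim σ B g μ) : IsSim σ B g⁻¹ μ⁻¹ := by
  unfold IsSim at *
  have := adjForm_mul σ B (g : Matrix ι ι F) ((g⁻¹ : GL ι F) : Matrix ι ι F)
  rw [Units.mul_inv, adjForm_one, hg, adjForm_smul_left] at this
  rw [eq_inv_smul_iff₀ hμ]
  exact this.symm

lemma IsSim.mult_unique {σ : F ≃+* F} {B : Matrix ι ι F} (hB : B ≠ 0) {g : GL ι F} {μ ν : F}
    (h1 : IsSim σ B g μ) (h2 : IsSim σ B g ν) : μ = ν := by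
  have : (μ - ν) • B = 0 := by rw [sub_smul, ← h1, ← h2, sub_self]
  exact sub_eq_zero.1 ((smul_eq_zero.1 this).resolve_right hB)

lemma formOf_eq_of_isSim {σ : F ≃+* F} {B : Matrix ι ι F} {g : GL ι F} {μ : F}
    (hg : IsSim σ B g μ) (u v : ι → F) :
    formOf σ B ((g : Matrix ι ι F) *ᵥ u) ((g : Matrix ι ι F) *ᵥ v) = μ * formOf σ B u v := by
  rw [formOf_mulVec, hg, formOf_smul]

lemma isSim_of_formOf {σ : F ≃+* F} {B : Matrix ι ι F} {g : GL ι F} {μ : F}
    (h : ∀ u v, formOf σ B ((g : Matrix ι ι F) *ᵥ u) ((g : Matrix ι ι F) *ᵥ v)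
      = μ * formOf σ B u v) : IsSim σ B g μ :=
  formOf_injective fun u v => by rw [← formOf_mulVec, h, formOf_smul]

lemma mem_similarityGroup_of_isSim [Nonempty ι] {σ : F ≃+* F} {B : Matrix ι ι F} (hB : IsUnit B)
    {g : GL ι F} {μ : F} (hg : IsSim σ B g μ) : g ∈ similarityGroup (formOf σ B) :=
  ⟨Units.mk0 μ (hg.ne_zero hB), fun u v => formOf_eq_of_isSim hg u v⟩

lemma isSim_of_mem_similarityGroup {σ : F ≃+* F} {B : Matrix ι ι F} {g : GL ι F}
    (hg : g ∈ similarityGroup (formOf σ B)) : ∃ μ : F, μ ≠ 0 ∧ IsSim σ B g μ := by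
  obtain ⟨c, hc⟩ := hg
  exact ⟨c, c.ne_zero, isSim_of_formOf hc⟩

lemma formOf_add_left (σ : F ≃+* F) (B : Matrix ι ι F) (x y v : ι → F) :
    formOf σ B (x + y) v = formOf σ B x v + formOf σ B y v := add_dotProduct _ _ _

lemma formOf_smul_left (σ : F ≃+* F) (B : Matrix ι ι F) (c : F) (x v : ι → F) :
    formOf σ B (c • x) v = c * formOf σ B x v := smul_dotProduct _ _ _

lemma formOf_add_right (σ : F ≃+* F) (B : Matrix ι ι F) (v x y : ι → F) :
    formOf σ B v (x + y) = formOf σ B v x + formOf σ B v y := by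
  simp only [formOf, Pi.add_apply, map_add]
  rw [show (fun i => σ (x i) + σ (y i)) = (fun i => σ (x i)) + fun i => σ (y i) from rfl,
    Matrix.mulVec_add, dotProduct_add]

lemma formOf_smul_right (σ : F ≃+* F) (B : Matrix ι ι F) (c : F) (v x : ι → F) :
    formOf σ B v (c • x) = σ c * formOf σ B v x := by
  simp only [formOf, Pi.smul_apply, smul_eq_mul, map_mul]
  rw [show (fun i => σ c * σ (x i)) = σ c • fun i => σ (x i) from rfl, Matrix.mulVec_smul,
    dotProduct_smul, smul_eq_mul]

lemma formOf_star {σ : F ≃+* F} (hσ : ∀ a, σ (σ a) = a) (B : Matrix ι ι F) (u v : ι → F) :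
    formOf σ (starMat σ B) u v = σ (formOf σ B v u) := by
  simp only [formOf, starMat, Matrix.mulVec, dotProduct, Matrix.transpose_apply, Matrix.map_apply,
    map_sum, map_mul, hσ, Finset.mul_sum]
  rw [Finset.sum_comm]
  exact Finset.sum_congr rfl fun i _ => Finset.sum_congr rfl fun j _ => by ring

lemma adjForm_star {σ : F ≃+* F} (hσ : ∀ a, σ (σ a) = a) (B g : Matrix ι ι F) :
    adjForm σ (starMat σ B) g = starMat σ (adjForm σ B g) := by
  have hg : (g.map σ).map σ = g := by ext i j; simp [hσ]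
  simp [adjForm, starMat, Matrix.map_mul, Matrix.transpose_mul, Matrix.transpose_map, hg,
    mul_assoc]

lemma isUnit_starMat {σ : F ≃+* F} {B : Matrix ι ι F} (hB : IsUnit B) : IsUnit (starMat σ B) :=
  (Matrix.isUnit_transpose _).2 (hB.map σ.toRingHom.mapMatrix)

lemma isNondegenerateForm_formOf (σ : F ≃+* F) {B : Matrix ι ι F} (hB : IsUnit B) :
    IsNondegenerateForm (formOf σ B) := by
  intro v hv
  constructor
  · obtain ⟨i, hi⟩ : ∃ i, (B *ᵥ fun j => σ (v j)) i ≠ 0 := by
      by_contra h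
      push Not at h
      have h0 : (fun j => σ (v j)) = 0 := Matrix.mulVec_injective_iff_isUnit.2 hB (by
        ext i; simpa using h i)
      exact hv (funext fun j => σ.map_eq_zero_iff.1 (congrFun h0 j))
    refine ⟨Pi.single i 1, ?_⟩
    simpa [formOf] using hi
  · obtain ⟨i, hi⟩ : ∃ i, (Bᵀ *ᵥ v) i ≠ 0 := by
      by_contra h
      push Not at h
      have h0 : v = 0 := Matrix.mulVec_injective_iff_isUnit.2 ((Matrix.isUnit_transpose _).2 hB)
        (by ext i; simpa using h i)
      exact hv h0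
    refine ⟨Pi.single i 1, ?_⟩
    have : (fun j => σ ((Pi.single i (1 : F) : ι → F) j)) = Pi.single i 1 := by
      ext j
      by_cases h : j = i <;> simp [h]
    rw [formOf, this, Matrix.dotProduct_mulVec, ← Matrix.mulVec_transpose]
    simpa using hi

lemma isUnit_of_isNondegenerateForm {σ : F ≃+* F} {B : Matrix ι ι F}
    (h : IsNondegenerateForm (formOf σ B)) : IsUnit B := by
  rw [← Matrix.mulVec_injective_iff_isUnit]
  intro x y hxy
  by_contra hne
  set v : ι → F := fun i => σ.symm ((x - y) i) with hv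
  have hv0 : v ≠ 0 := by
    intro h0
    apply hne
    have : x - y = 0 := funext fun i => σ.symm.map_eq_zero_iff.1 (congrFun h0 i)
    exact sub_eq_zero.1 this
  obtain ⟨⟨u, hu⟩, -⟩ := h v hv0
  apply hu
  have hσv : (fun i => σ (v i)) = x - y := funext fun i => σ.apply_symm_apply _
  rw [formOf, hσv, Matrix.mulVec_sub, show B *ᵥ x = B *ᵥ y from hxy, sub_self, dotProduct_zero]

lemma formOf_expand (σ : F ≃+* F) {f : (ι → F) → (ι → F) → F}
    (h1 : ∀ x y v, f (x + y) v = f x v + f y v) (h2 : ∀ (c : F) x v, f (c • x) v = c * f x v)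
    (h3 : ∀ v x y, f v (x + y) = f v x + f v y) (h4 : ∀ (c : F) v x, f v (c • x) = σ c * f v x) :
    f = formOf σ (gramMatrix f) := by
  funext u v
  let L : (ι → F) →ₗ[F] F :=
    { toFun := fun x => f x v
      map_add' := fun x y => h1 x y v
      map_smul' := fun c x => by simp [h2] }
  let R : ι → ((ι → F) →ₛₗ[σ.toRingHom] F) := fun a =>
    { toFun := fun x => f (Pi.single a 1) x
      map_add' := fun x y => h3 _ x y
      map_smul' := fun c x => by simp [h4] }
  have hL : f u v = ∑ a, u a * f (Pi.single a 1) v := by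
    show L u = _
    conv_lhs => rw [pi_eq_sum_univ' u, map_sum]
    simp [L]
  have hR : ∀ a, f (Pi.single a 1) v = ∑ b, gramMatrix f a b * σ (v b) := fun a => by
    show R a v = _
    conv_lhs => rw [pi_eq_sum_univ' v, map_sum]
    refine Finset.sum_congr rfl fun b _ => ?_
    show f _ (v b • _) = _
    rw [h4, mul_comm]
    rfl
  rw [hL, formOf]
  simp only [hR, dotProduct, Matrix.mulVec]

lemma bilinearForm_eq_formOf {f : (ι → F) → (ι → F) → F} (hf : IsBilinearForm f) :
    f = formOf (RingEquiv.refl F) (gramMatrix f) :=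
  formOf_expand _ hf.add_left hf.smul_left hf.add_right hf.smul_right

lemma unitaryForm_eq_formOf {σ : F ≃+* F} {f : (ι → F) → (ι → F) → F} (hf : IsUnitaryForm σ f) :
    f = formOf σ (gramMatrix f) := by
  refine formOf_expand σ hf.add_left hf.smul_left (fun v x y => ?_) (fun c v x => ?_)
  · rw [hf.herm v, hf.add_left, map_add, ← hf.herm, ← hf.herm]
  · rw [hf.herm v, hf.smul_left, map_mul, ← hf.herm]

/-- The Gram matrix of a symplectic form. -/
lemma symplecticForm_gram {f : (ι → F) → (ι → F) → F} (hf : IsSymplecticForm f) :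
    IsUnit (gramMatrix f) ∧ (gramMatrix f)ᵀ = -gramMatrix f ∧ ∀ i, gramMatrix f i i = 0 := by
  refine ⟨isUnit_of_isNondegenerateForm (σ := RingEquiv.refl F) ?_, ?_, fun i => hf.alternating _⟩
  · rw [← bilinearForm_eq_formOf hf.bilinear]; exact hf.nondegenerate
  · ext i j; exact hf.skew _ _

lemma formOf_self_eq_zero {B : Matrix ι ι F} (hskew : Bᵀ = -B) (hdiag : ∀ i, B i i = 0)
    (v : ι → F) : formOf (RingEquiv.refl F) B v v = 0 := by
  have h : formOf (RingEquiv.refl F) B v v = ∑ p : ι × ι, v p.1 * B p.1 p.2 * v p.2 := by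
    simp [formOf, dotProduct, Matrix.mulVec, Finset.mul_sum, Fintype.sum_prod_type, mul_assoc]
  rw [h]
  refine Finset.sum_involution (fun p _ => (p.2, p.1)) ?_ ?_ (fun p _ => Finset.mem_univ _)
    (fun p _ => rfl)
  · intro p _
    have : B p.2 p.1 = -B p.1 p.2 := congrFun (congrFun hskew p.1) p.2
    rw [this]
    ring
  · intro p _ hne heq
    obtain ⟨a, b⟩ := p
    simp only [Prod.mk.injEq] at heq
    apply hne
    rw [heq.1]
    simp [hdiag]

lemma isSymplecticForm_formOf {B : Matrix ι ι F} (hB : IsUnit B) (hskew : Bᵀ = -B)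
    (hdiag : ∀ i, B i i = 0) : IsSymplecticForm (formOf (RingEquiv.refl F) B) where
  bilinear := ⟨formOf_add_left _ _, formOf_smul_left _ _, formOf_add_right _ _,
    fun c v x => formOf_smul_right _ _ c v x⟩
  skew v w := by
    have h := formOf_star (σ := RingEquiv.refl F) (fun a => rfl) B v w
    rw [show starMat (RingEquiv.refl F) B = -B from by
      rw [starMat, show B.map (RingEquiv.refl F) = B from rfl, hskew]] at h
    simp only [RingEquiv.refl_apply] at h
    rw [← h]
    simp [formOf, Matrix.neg_mulVec]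
  alternating := formOf_self_eq_zero hskew hdiag
  nondegenerate := isNondegenerateForm_formOf _ hB

lemma even_card_of_skew_unit {B : Matrix ι ι F} (hB : IsUnit B) (hskew : Bᵀ = -B)
    (h2 : (2 : F) ≠ 0) : Even (Fintype.card ι) := by
  rcases Nat.even_or_odd (Fintype.card ι) with h | h
  · exact h
  exfalso
  have hdet := congrArg Matrix.det hskew
  rw [Matrix.det_transpose, Matrix.det_neg, h.neg_one_pow, neg_one_mul, eq_neg_iff_add_eq_zero,
    ← two_mul, mul_eq_zero] at hdet
  exact ((Matrix.isUnit_iff_isUnit_det B).1 hB).ne_zero (hdet.resolve_left h2)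

lemma isUnitaryForm_formOf {σ : F ≃+* F} (hne : σ ≠ RingEquiv.refl F) (hσ : ∀ a, σ (σ a) = a)
    {B : Matrix ι ι F} (hB : IsUnit B) (hherm : starMat σ B = B) :
    IsUnitaryForm σ (formOf σ B) where
  ne_refl := hne
  involutive := hσ
  add_left := formOf_add_left _ _
  smul_left := formOf_smul_left _ _
  herm v w := by
    have h := formOf_star hσ B v w
    rw [hherm] at h
    exact h
  nondegenerate := isNondegenerateForm_formOf _ hB

lemma polar_formOf_diag (B : Matrix ι ι F) (u v : ι → F) :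
    QuadraticMap.polar (fun x => formOf (RingEquiv.refl F) B x x) u v
      = formOf (RingEquiv.refl F) (B + Bᵀ) u v := by
  have h1 := formOf_star (σ := RingEquiv.refl F) (fun a => rfl) B u v
  simp only [RingEquiv.refl_apply, starMat] at h1
  have h2 : formOf (RingEquiv.refl F) (B + Bᵀ) u v
      = formOf (RingEquiv.refl F) B u v + formOf (RingEquiv.refl F) Bᵀ u v := by
    simp [formOf, Matrix.add_mulVec, dotProduct_add]
  rw [h2, show Bᵀ = (B.map (RingEquiv.refl F))ᵀ from rfl, h1]
  simp only [QuadraticMap.polar, formOf_add_left, formOf_add_right]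
  ring

lemma isNondegenerateQuadraticForm_formOf {B : Matrix ι ι F} (hB : IsUnit B) (hsymm : Bᵀ = B)
    (h2 : (2 : F) ≠ 0) :
    IsNondegenerateQuadraticForm (fun x => formOf (RingEquiv.refl F) B x x) := by
  have hp : QuadraticMap.polar (fun x => formOf (RingEquiv.refl F) B x x)
      = formOf (RingEquiv.refl F) ((2 : F) • B) := by
    funext u v
    rw [polar_formOf_diag, hsymm, two_smul]
  refine ⟨fun c v => ?_, ?_, ?_⟩
  · show formOf _ B (c • v) (c • v) = _
    rw [formOf_smul_left, formOf_smul_right]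
    simp [pow_two, mul_assoc]
  · rw [hp]
    exact ⟨formOf_add_left _ _, formOf_smul_left _ _, formOf_add_right _ _,
      fun c v x => formOf_smul_right _ _ c v x⟩
  · rw [hp]
    refine isNondegenerateForm_formOf _ ((Matrix.isUnit_iff_isUnit_det _).2 ?_)
    rw [Matrix.det_smul]
    exact (h2.isUnit.pow _).mul ((Matrix.isUnit_iff_isUnit_det B).1 hB)

lemma mem_quadSimilarityGroup_of_isSim [Nonempty ι] {B : Matrix ι ι F} (hB : IsUnit B)
    {g : GL ι F} {μ : F} (hg : IsSim (RingEquiv.refl F) B g μ) :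
    g ∈ quadSimilarityGroup (fun x => formOf (RingEquiv.refl F) B x x) :=
  ⟨Units.mk0 μ (hg.ne_zero hB), fun v => formOf_eq_of_isSim hg v v⟩

lemma matrix_eq_smul_one_of_comm {R : Subgroup (GL ι F)}
    (hR : ActsAbsolutelyIrreducibly (matrixSet R)) {M : Matrix ι ι F}
    (h : ∀ g ∈ R, M * (g : Matrix ι ι F) = (g : Matrix ι ι F) * M) : ∃ c : F, M = c • 1 :=
  hR.2 M fun s hs => by obtain ⟨g, hg, rfl⟩ := hs; exact h g hg

/-- Forms with the same multipliers on an absolutely irreducible group are proportional. -/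
theorem eq_smul_of_isSim {R : Subgroup (GL ι F)} (hR : ActsAbsolutelyIrreducibly (matrixSet R))
    {σ : F ≃+* F} {B B' : Matrix ι ι F} (hB : IsUnit B)
    (h : ∀ g ∈ R, ∃ μ, μ ≠ 0 ∧ IsSim σ B g μ ∧ IsSim σ B' g μ) : ∃ c : F, B' = c • B := by
  obtain ⟨u, rfl⟩ := hB
  set M := ((u⁻¹ : GL ι F) : Matrix ι ι F) * B' with hM
  obtain ⟨c, hc⟩ := matrix_eq_smul_one_of_comm hR (M := M.map σ.symm) (fun g hg => by
    obtain ⟨μ, hμ, h1, h2⟩ := h g hg
    have key : ∀ C : Matrix ι ι F, IsSim σ C g μ → C * (g : Matrix ι ι F).map σ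
        = μ • (((g⁻¹ : GL ι F) : Matrix ι ι F)ᵀ * C) := by
      intro C hC
      have := congrArg (((g⁻¹ : GL ι F) : Matrix ι ι F)ᵀ * ·) hC
      simp only [adjForm, ← mul_assoc, ← Matrix.transpose_mul, Units.mul_inv,
        Matrix.transpose_one, one_mul] at this
      rw [this, Matrix.mul_smul]
    have hcomm : M * (g : Matrix ι ι F).map σ = (g : Matrix ι ι F).map σ * M := by
      have e1 : (g : Matrix ι ι F).map σ = ((u⁻¹ : GL ι F) : Matrix ι ι F)
          * (μ • (((g⁻¹ : GL ι F) : Matrix ι ι F)ᵀ * (u : Matrix ι ι F))) := by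
        rw [← key _ h1, ← mul_assoc, Units.inv_mul, one_mul]
      rw [hM, mul_assoc, key _ h2]
      conv_rhs => rw [e1]
      simp [mul_assoc]
    have h3 := congrArg (fun X : Matrix ι ι F => X.map σ.symm) hcomm
    have hgg : ((g : Matrix ι ι F).map σ).map σ.symm = (g : Matrix ι ι F) := by
      ext i j; simp
    simpa [Matrix.map_mul, hgg] using h3)
  refine ⟨σ c, ?_⟩
  have h4 : M = σ c • (1 : Matrix ι ι F) := by
    have h5 := congrArg (fun X : Matrix ι ι F => X.map σ) hc
    have hMM : (M.map σ.symm).map σ = M := by ext i j; simp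
    simpa [hMM, Matrix.map_smul', Matrix.map_one] using h5
  calc B' = (u : Matrix ι ι F) * M := by rw [hM, ← mul_assoc, Units.mul_inv, one_mul]
    _ = _ := by rw [h4, Matrix.mul_smul, mul_one]

/-- A group normalising an absolutely irreducible group of isometries consists of similarities. -/
theorem isSim_of_normalises [Nonempty ι] {R : Subgroup (GL ι F)}
    (hR : ActsAbsolutelyIrreducibly (matrixSet R)) {σ : F ≃+* F} {B : Matrix ι ι F} (hB : IsUnit B)
    (hfix : ∀ g ∈ R, IsSim σ B g 1) {h : GL ι F} (hh : ∀ x ∈ R, h * x * h⁻¹ ∈ R) :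
    ∃ μ : F, μ ≠ 0 ∧ IsSim σ B h μ := by
  obtain ⟨c, hc⟩ := eq_smul_of_isSim hR (σ := σ) (B' := adjForm σ B (h : Matrix ι ι F)) hB
    (fun g hg => ⟨1, one_ne_zero, hfix g hg, by
      have e : (h : Matrix ι ι F) * (g : Matrix ι ι F)
          = ((h * g * h⁻¹ : GL ι F) : Matrix ι ι F) * (h : Matrix ι ι F) := by
        simp [mul_assoc]
      unfold IsSim
      rw [← adjForm_mul, e, adjForm_mul, hfix _ (hh g hg), one_smul, one_smul]⟩)
  exact ⟨c, IsSim.ne_zero hB (g := h) hc, hc⟩

/-- A perfect group of similarities consists of isometries. -/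
theorem isSim_one_of_perfect [Nonempty ι] {R : Subgroup (GL ι F)} (hperf : ⁅R, R⁆ = R)
    {σ : F ≃+* F} {B : Matrix ι ι F} (hB : IsUnit B) (h : ∀ g ∈ R, ∃ μ, IsSim σ B g μ) :
    ∀ g ∈ R, IsSim σ B g 1 := by
  intro g hg
  rw [← hperf] at hg
  let S : Subgroup (GL ι F) :=
    { carrier := {g | IsSim σ B g 1}
      mul_mem' := fun ha hb => by simpa using ha.mul hb
      one_mem' := IsSim.one σ B
      inv_mem' := fun ha => by simpa using ha.inv one_ne_zero }
  refine (Subgroup.commutator_le.2 fun a ha b hb => ?_ : ⁅R, R⁆ ≤ S) hg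
  obtain ⟨μ, hμ⟩ := h a ha
  obtain ⟨ν, hν⟩ := h b hb
  show IsSim σ B (a * b * a⁻¹ * b⁻¹) 1
  have := ((hμ.mul hν).mul (hμ.inv (hμ.ne_zero hB))).mul (hν.inv (hν.ne_zero hB))
  have e : μ * ν * μ⁻¹ * ν⁻¹ = 1 := by
    have := hμ.ne_zero hB; have := hν.ne_zero hB; field_simp
  rwa [e] at this

/-- An invariant form may be scaled to be symmetric, skew-symmetric or hermitian. -/
theorem starMat_eq_smul [Nonempty ι] {R : Subgroup (GL ι F)}
    (hR : ActsAbsolutelyIrreducibly (matrixSet R)) {σ : F ≃+* F} (hσ : ∀ a, σ (σ a) = a)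
    {B : Matrix ι ι F} (hB : IsUnit B)
    (h : ∀ g ∈ R, ∃ μ, μ ≠ 0 ∧ σ μ = μ ∧ IsSim σ B g μ) :
    ∃ c : F, starMat σ B = c • B ∧ σ c * c = 1 := by
  obtain ⟨c, hc⟩ := eq_smul_of_isSim hR (σ := σ) (B' := starMat σ B) hB (fun g hg => by
    obtain ⟨μ, h0, hμ, hs⟩ := h g hg
    refine ⟨μ, h0, hs, ?_⟩
    unfold IsSim
    rw [adjForm_star hσ, hs]
    simp [starMat, Matrix.map_smul', hμ])
  refine ⟨c, hc, ?_⟩
  have h2 : starMat σ (starMat σ B) = B := by ext i j; simp [starMat, hσ]
  conv at h2 => lhs; rw [hc]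
  rw [show starMat σ (c • B) = σ c • starMat σ B by simp [starMat, Matrix.map_smul'], hc,
    smul_smul] at h2
  have h3 : (σ c * c - 1) • B = 0 := by rw [sub_smul, h2, one_smul, sub_self]
  exact sub_eq_zero.1 ((smul_eq_zero.1 h3).resolve_right hB.ne_zero)

lemma exists_hermitian_scalar {σ : F ≃+* F} (hσ : ∀ a, σ (σ a) = a)
    (hne : σ ≠ RingEquiv.refl F) {c : F} (hc : σ c * c = 1) :
    ∃ d : F, d ≠ 0 ∧ σ d * c = d := by
  by_cases h : ∃ a, a + c * σ a ≠ 0
  · obtain ⟨a, ha⟩ := h
    refine ⟨_, ha, ?_⟩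
    rw [map_add, map_mul, hσ]
    linear_combination a * hc
  · push Not at h
    exfalso
    apply hne
    have h1 : c = -1 := by
      have := h 1
      rw [map_one, mul_one] at this
      linear_combination this
    refine RingEquiv.ext fun a => ?_
    have := h a
    rw [h1] at this
    simp only [RingEquiv.refl_apply]
    linear_combination -this

lemma hermitian_smul {σ : F ≃+* F} {B : Matrix ι ι F} {c d : F} (hc : starMat σ B = c • B)
    (hd : σ d * c = d) : starMat σ (d • B) = d • B := by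
  rw [show starMat σ (d • B) = σ d • starMat σ B by simp [starMat, Matrix.map_smul'], hc,
    smul_smul, hd]

/-- In characteristic two a symmetric form with an irreducible group of similarities is
alternating. -/
theorem diag_eq_zero_of_irreducible [Finite F] {R : Subgroup (GL ι F)}
    (hR : ActsIrreducibly (matrixSet R)) (h2 : (2 : F) = 0) (hn : 2 ≤ Fintype.card ι)
    {B : Matrix ι ι F} (hsymm : Bᵀ = B)
    (h : ∀ g ∈ R, ∃ μ, IsSim (RingEquiv.refl F) B g μ) : ∀ i, B i i = 0 := by
  haveI : CharP F 2 := CharTwo.of_one_ne_zero_of_two_eq_zero one_ne_zero h2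
  set f := formOf (RingEquiv.refl F) B with hf
  have hcross : ∀ u v, f u v + f v u = 0 := by
    intro u v
    have h1 := formOf_star (σ := RingEquiv.refl F) (fun a => rfl) B u v
    simp only [RingEquiv.refl_apply, starMat] at h1
    rw [show (B.map (RingEquiv.refl F))ᵀ = B from hsymm] at h1
    rw [hf, h1]
    exact CharTwo.add_self_eq_zero _
  have hadd : ∀ u v, f (u + v) (u + v) = f u u + f v v := fun u v => by
    have := hcross u v
    rw [hf] at this ⊢
    simp only [formOf_add_left, formOf_add_right]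
    linear_combination this
  have hsmul : ∀ (c : F) u, f (c • u) (c • u) = c ^ 2 * f u u := fun c u => by
    rw [hf, formOf_smul_left, formOf_smul_right, RingEquiv.refl_apply]
    ring
  let W : Submodule F (ι → F) :=
    { carrier := {v | f v v = 0}
      add_mem' := fun {a b} (ha : f a a = 0) (hb : f b b = 0) => by
        show f (a + b) (a + b) = 0
        rw [hadd, ha, hb, add_zero]
      zero_mem' := by
        show f 0 0 = 0
        simp [hf, formOf]
      smul_mem' := fun c {a} (ha : f a a = 0) => by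
        show f (c • a) (c • a) = 0
        rw [hsmul, ha, mul_zero] }
  have hW : W = ⊤ := by
    refine (hR W ?_).resolve_left ?_
    · rintro s ⟨g, hg, rfl⟩ v ⟨w, hw, rfl⟩
      obtain ⟨μ, hμ⟩ := h g hg
      show f _ _ = 0
      simp only [Matrix.toLin'_apply]
      rw [hf, formOf_eq_of_isSim hμ, ← hf, show f w w = 0 from hw, mul_zero]
    · intro hbot
      obtain ⟨i, j, hij⟩ : ∃ i j : ι, i ≠ j := Fintype.exists_pair_of_one_lt_card (by omega)
      have hWmem : ∀ v, f v v = 0 → v = 0 := fun v hv => by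
        have : v ∈ W := hv
        rw [hbot] at this
        simpa using this
      set v := (Pi.single j 1 : ι → F) with hv
      set u := (Pi.single i 1 : ι → F) with hu
      have hv0 : f v v ≠ 0 := fun h0 => by simpa [hv] using congrFun (hWmem v h0) j
      obtain ⟨c, hc'⟩ := FiniteField.isSquare_of_char_two (F := F) (ringChar.eq F 2)
        (f u u / f v v)
      have hc : c ^ 2 = f u u / f v v := by rw [hc', pow_two]
      have hmem : f (u + c • v) (u + c • v) = 0 := by
        rw [hadd, hsmul, hc, div_mul_cancel₀ _ hv0]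
        exact CharTwo.add_self_eq_zero _
      simpa [hu, hv, hij] using congrFun (hWmem _ hmem) i
  intro i
  have : (Pi.single i 1 : ι → F) ∈ W := hW ▸ Submodule.mem_top
  simpa [W, hf, formOf_single] using this

end Cfsg.Agent.GeoClasses
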