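import Mathlib
import Cfsg.Prelude.Def_GeometricClasses
import Cfsg.Agent.GeoClasses.Basic
import Cfsg.Agent.GeoClasses.MatrixUnits
import Cfsg.Agent.GeoClasses.Algebra

/-!
Tensor decompositions: normalisers of `M_a ⊗ 1` and of families of commuting full matrix
subalgebras, and membership in the tensor stabilisers of the Prelude.
-/

set_option autoImplicit false
set_option maxHeartbeats 400000

namespace Cfsg.Agent.GeoClasses

open Matrix Cfsg.Geo
open scoped MatrixGroups Matrix Kronecker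

variable {ι κ : Type} [Fintype ι] [DecidableEq ι] [Fintype κ] [DecidableEq κ] {F : Type*} [Field F]

lemma det_conjMat (L : (κ → F) ≃ₗ[F] (ι → F)) (X : Matrix κ κ F) :
    (conjMat L X).det = X.det := by
  rw [show conjMat L X = LinearMap.toMatrix' (L.conjAlgEquiv F (Matrix.toLin' X)) from rfl,
    LinearMap.det_toMatrix']
  rw [show L.conjAlgEquiv F (Matrix.toLin' X)
      = L.toLinearMap ∘ₗ Matrix.toLin' X ∘ₗ L.symm.toLinearMap from rfl]
  rw [LinearMap.det_conj, LinearMap.det_toLin']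

lemma glReindex_apply {e : κ ≃ ι} (g : GL κ F) :
    ((glReindex e g : GL ι F) : Matrix ι ι F) = Matrix.reindexAlgEquiv F F e g := rfl

lemma gl_conj_val (P g : GL ι F) :
    (((MulAut.conj P).toMonoidHom g : GL ι F) : Matrix ι ι F)
      = (P : Matrix ι ι F) * g * ((P⁻¹ : GL ι F) : Matrix ι ι F) := by
  simp [MulAut.conj_apply]

/-- The Kronecker product of two invertible matrices, as an invertible matrix. -/
def glKron {a b : ℕ} (c : GL (Fin a) F) (d : GL (Fin b) F) : GL (Fin a × Fin b) F where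
  val := (c : Matrix (Fin a) (Fin a) F) ⊗ₖ (d : Matrix (Fin b) (Fin b) F)
  inv := ((c⁻¹ : GL (Fin a) F) : Matrix (Fin a) (Fin a) F) ⊗ₖ
    ((d⁻¹ : GL (Fin b) F) : Matrix (Fin b) (Fin b) F)
  val_inv := by rw [← Matrix.mul_kronecker_mul]; simp
  inv_val := by rw [← Matrix.mul_kronecker_mul]; simp

lemma mem_tensorProductSubgroup {a b : ℕ} {σ : ι ≃ Fin a × Fin b} {P g : GL ι F}
    {L : (Fin a × Fin b → F) ≃ₗ[F] (ι → F)}
    (hP : ∀ X, conjMat L X = (P : Matrix ι ι F) * Matrix.reindexAlgEquiv F F σ.symm X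
      * ((P⁻¹ : GL ι F) : Matrix ι ι F))
    (c : GL (Fin a) F) (d : GL (Fin b) F)
    (hg : (g : Matrix ι ι F)
      = conjMat L ((c : Matrix (Fin a) (Fin a) F) ⊗ₖ (d : Matrix (Fin b) (Fin b) F))) :
    g ∈ tensorProductSubgroup a b σ P := by
  refine ⟨glReindex σ.symm (glKron c d), ⟨glKron c d, ⟨c, d, rfl⟩, rfl⟩, Units.ext ?_⟩
  rw [gl_conj_val, hg, hP]
  rfl

/-- The commutant of `M_a ⊗ 1` is `1 ⊗ M_b`. -/
lemma commutant_kronecker {a b : ℕ} [NeZero a]
    {X : Matrix (Fin a × Fin b) (Fin a × Fin b) F}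
    (h : ∀ Y : Matrix (Fin a) (Fin a) F,
      (Y ⊗ₖ (1 : Matrix (Fin b) (Fin b) F)) * X = X * (Y ⊗ₖ (1 : Matrix (Fin b) (Fin b) F))) :
    ∃ D : Matrix (Fin b) (Fin b) F, X = (1 : Matrix (Fin a) (Fin a) F) ⊗ₖ D := by
  refine ⟨fun s u => X (0, s) (0, u), ?_⟩
  ext ⟨i, s⟩ ⟨j, u⟩
  have h1 : ∀ i j k l : Fin a, ∀ s u : Fin b,
      (if i = k then X (j, s) (l, u) else 0) = (if j = l then X (k, s) (i, u) else 0) → True :=
    fun _ _ _ _ _ _ _ => trivial
  have key : ∀ p q k l : Fin a,
      (if p = k then X (q, s) (l, u) else 0) = (if q = l then X (k, s) (p, u) else 0) := by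
    intro p q k l
    have := congrFun (congrFun (h (Matrix.single p q 1)) (k, s)) (l, u)
    simpa [Matrix.mul_apply, Fintype.sum_prod_type, Matrix.single_apply, Matrix.one_apply,
      ite_and, eq_comm] using this
  show X (i, s) (j, u) = (1 : Matrix (Fin a) (Fin a) F) i j * X (0, s) (0, u)
  by_cases hij : i = j
  · subst hij
    rw [Matrix.one_apply_eq, one_mul]
    have := key 0 i 0 i
    simpa using this
  · rw [Matrix.one_apply_ne hij, zero_mul]
    have := key i i i j
    simpa [hij] using this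

/-- An element normalising `M_a ⊗ 1` is a Kronecker product. -/
theorem normaliser_kronecker [Nonempty ι] {a b : ℕ} (ha : 0 < a) (hb : 0 < b)
    {φ : Matrix (Fin a) (Fin a) F →ₐ[F] Matrix ι ι F}
    {L : (Fin a × Fin b → F) ≃ₗ[F] (ι → F)}
    (hL : ∀ Y, φ Y = conjMat L (Y ⊗ₖ (1 : Matrix (Fin b) (Fin b) F)))
    (hinj : Function.Injective φ) {g : GL ι F} (hg : ∀ x ∈ φ.range, conjGL g x ∈ φ.range) :
    ∃ (c : GL (Fin a) F) (d : GL (Fin b) F), (g : Matrix ι ι F)
      = conjMat L ((c : Matrix (Fin a) (Fin a) F) ⊗ₖ (d : Matrix (Fin b) (Fin b) F)) := by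
  haveI : NeZero a := ⟨ha.ne'⟩
  let E := AlgEquiv.ofInjective φ hinj
  let c' : φ.range →ₐ[F] φ.range :=
    ((conjGL g).toAlgHom.comp φ.range.val).codRestrict _ (fun x => hg x x.2)
  let θ : Matrix (Fin a) (Fin a) F →ₐ[F] Matrix (Fin a) (Fin a) F :=
    E.symm.toAlgHom.comp (c'.comp E.toAlgHom)
  obtain ⟨c, hc⟩ := exists_conj_of_algHom θ (AlgHom.id F _)
  have hθ : ∀ Y, φ (θ Y) = conjGL g (φ Y) := fun Y => by
    show φ (E.symm (c' (E Y))) = _
    have := congrArg Subtype.val (E.apply_symm_apply (c' (E Y)))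
    exact this
  set X := (conjMat L).symm (g : Matrix ι ι F) with hX
  have hgX : (g : Matrix ι ι F) = conjMat L X := ((conjMat L).apply_symm_apply _).symm
  have hcomm : ∀ Y : Matrix (Fin a) (Fin a) F,
      ((((c : Matrix (Fin a) (Fin a) F) * Y * ((c⁻¹ : GL (Fin a) F) : Matrix (Fin a) (Fin a) F)))
        ⊗ₖ (1 : Matrix (Fin b) (Fin b) F)) * X = X * (Y ⊗ₖ (1 : Matrix (Fin b) (Fin b) F)) := by
    intro Y
    apply (conjMat L).injective
    rw [map_mul, map_mul, ← hgX, ← hL, ← hL,
      show (c : Matrix (Fin a) (Fin a) F) * Y * ((c⁻¹ : GL (Fin a) F) : Matrix (Fin a) (Fin a) F)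
        = θ Y from (hc Y).symm, hθ, conjGL_apply]
    simp [mul_assoc]
  obtain ⟨D, hD⟩ := commutant_kronecker
    (X := (((c⁻¹ : GL (Fin a) F) : Matrix (Fin a) (Fin a) F) ⊗ₖ (1 : Matrix (Fin b) (Fin b) F)) * X)
    (fun Y => by
      have := hcomm Y
      have h2 := congrArg ((((c⁻¹ : GL (Fin a) F) : Matrix (Fin a) (Fin a) F) ⊗ₖ
        (1 : Matrix (Fin b) (Fin b) F)) * ·) this
      simp only [← mul_assoc, ← Matrix.mul_kronecker_mul, Units.inv_mul, one_mul] at h2
      rw [← mul_assoc, ← Matrix.mul_kronecker_mul, one_mul]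
      exact h2)
  have hXD : X = (c : Matrix (Fin a) (Fin a) F) ⊗ₖ D := by
    have h3 := congrArg (((c : Matrix (Fin a) (Fin a) F) ⊗ₖ (1 : Matrix (Fin b) (Fin b) F)) * ·) hD
    simpa only [← mul_assoc, ← Matrix.mul_kronecker_mul, Units.mul_inv, one_mul, mul_one,
      Matrix.one_kronecker_one] using h3
  have hdet : D.det ≠ 0 := by
    intro h0
    have h4 : IsUnit (g : Matrix ι ι F).det :=
      (Matrix.isUnit_iff_isUnit_det _).1 g.isUnit
    rw [hgX, det_conjMat, hXD, Matrix.det_kronecker, h0, zero_pow (by simpa using ha.ne'),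
      mul_zero] at h4
    exact not_isUnit_zero h4
  exact ⟨c, Matrix.GeneralLinearGroup.mkOfDetNeZero D hdet, by rw [hgX, hXD]; rfl⟩

/-- The pure tensor of a family of square matrices, indexed by functions. -/
def pureMat {a t : ℕ} (Ys : Fin t → Matrix (Fin a) (Fin a) F) :
    Matrix (Fin t → Fin a) (Fin t → Fin a) F :=
  fun x y => ∏ i, Ys i (x i) (y i)

lemma pureMat_mul {a t : ℕ} (Ys Zs : Fin t → Matrix (Fin a) (Fin a) F) :
    pureMat Ys * pureMat Zs = pureMat fun i => Ys i * Zs i := by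
  ext x y
  simp only [Matrix.mul_apply, pureMat, ← Finset.prod_mul_distrib]
  exact (Fintype.prod_sum fun i (k : Fin a) => Ys i (x i) k * Zs i k (y i)).symm

lemma pureMat_one (a t : ℕ) :
    pureMat (fun _ : Fin t => (1 : Matrix (Fin a) (Fin a) F)) = 1 := by
  ext x y
  by_cases hxy : x = y
  · subst hxy
    simp [pureMat]
  · obtain ⟨i, hi⟩ := Function.ne_iff.1 hxy
    rw [Matrix.one_apply_ne hxy]
    exact Finset.prod_eq_zero (Finset.mem_univ i) (Matrix.one_apply_ne hi)

lemma pureMat_smul {a t : ℕ} (cs : Fin t → F) (Ys : Fin t → Matrix (Fin a) (Fin a) F) :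
    pureMat (fun i => cs i • Ys i) = (∏ i, cs i) • pureMat Ys := by
  ext x y
  simp [pureMat, Finset.prod_mul_distrib]

lemma pureMat_transpose {a t : ℕ} (Ys : Fin t → Matrix (Fin a) (Fin a) F) :
    (pureMat Ys)ᵀ = pureMat fun i => (Ys i)ᵀ := rfl

lemma pureMat_map {a t : ℕ} (σ : F →+* F) (Ys : Fin t → Matrix (Fin a) (Fin a) F) :
    (pureMat Ys).map σ = pureMat fun i => (Ys i).map σ := by
  ext x y
  simp [pureMat, map_prod]

/-- The matrix permuting tensor factors. -/
def factorPerm (a : ℕ) {t : ℕ} (π : Equiv.Perm (Fin t)) :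
    Matrix (Fin t → Fin a) (Fin t → Fin a) F :=
  fun x y => if y = x ∘ π then 1 else 0

lemma pureMat_mul_factorPerm {a t : ℕ} (Ys : Fin t → Matrix (Fin a) (Fin a) F)
    (π : Equiv.Perm (Fin t)) :
    pureMat Ys * factorPerm a π = factorPerm a π * pureMat (fun i => Ys (π i)) := by
  ext x y
  simp only [Matrix.mul_apply, factorPerm, ite_mul, mul_ite, one_mul, mul_one, zero_mul, mul_zero]
  rw [Finset.sum_eq_single (y ∘ π.symm), Finset.sum_eq_single (x ∘ π)]
  · rw [if_pos rfl, if_pos (by funext i; simp)]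
    simp only [pureMat, Function.comp_apply]
    exact (Fintype.prod_equiv π _ _ (fun i => by simp)).symm
  · intro z _ hz; simp [hz]
  · simp
  · intro z _ hz
    rw [if_neg]
    rintro rfl
    exact hz (by funext i; simp)
  · simp

lemma factorPerm_mul {a t : ℕ} (π ρ : Equiv.Perm (Fin t)) :
    (factorPerm a π * factorPerm a ρ : Matrix (Fin t → Fin a) (Fin t → Fin a) F)
      = factorPerm a (π * ρ) := by
  ext x y
  simp only [Matrix.mul_apply, factorPerm, mul_ite, mul_one, mul_zero]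
  rw [Finset.sum_eq_single (x ∘ π)]
  · by_cases h : y = (x ∘ π) ∘ ρ
    · rw [if_pos h, if_pos rfl, if_pos (by rw [h]; rfl)]
    · rw [if_neg h, if_neg (fun hy => h (by rw [hy]; rfl))]
  · intro z _ hz; simp [hz]
  · simp

lemma factorPerm_one (a t : ℕ) :
    (factorPerm a (1 : Equiv.Perm (Fin t)) : Matrix (Fin t → Fin a) (Fin t → Fin a) F) = 1 := by
  ext x y
  simp [factorPerm, Matrix.one_apply, eq_comm]

lemma factorPerm_transpose_mul {a t : ℕ} (π : Equiv.Perm (Fin t)) :
    (factorPerm a π : Matrix (Fin t → Fin a) (Fin t → Fin a) F)ᵀ = factorPerm a π⁻¹ := by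
  ext x y
  simp only [Matrix.transpose_apply, factorPerm]
  congr 1
  refine propext ⟨?_, ?_⟩ <;> rintro rfl <;> funext i <;> simp

/-- The invertible pure tensor. -/
def glPure {a t : ℕ} (cs : Fin t → GL (Fin a) F) : GL (Fin t → Fin a) F where
  val := pureMat fun i => (cs i : Matrix (Fin a) (Fin a) F)
  inv := pureMat fun i => ((cs i)⁻¹ : GL (Fin a) F)
  val_inv := by rw [pureMat_mul]; simp only [Units.mul_inv]; exact pureMat_one a t
  inv_val := by rw [pureMat_mul]; simp only [Units.inv_mul]; exact pureMat_one a t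

/-- The invertible permutation of tensor factors. -/
def glFactorPerm (a : ℕ) {t : ℕ} (π : Equiv.Perm (Fin t)) : GL (Fin t → Fin a) F where
  val := factorPerm a π
  inv := factorPerm a π⁻¹
  val_inv := by rw [factorPerm_mul, mul_inv_cancel, factorPerm_one]
  inv_val := by rw [factorPerm_mul, inv_mul_cancel, factorPerm_one]

lemma mem_tensorWreathSubgroup {a t : ℕ} {σ : ι ≃ (Fin t → Fin a)} {P g : GL ι F}
    {L : ((Fin t → Fin a) → F) ≃ₗ[F] (ι → F)}
    (hP : ∀ X, conjMat L X = (P : Matrix ι ι F) * Matrix.reindexAlgEquiv F F σ.symm X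
      * ((P⁻¹ : GL ι F) : Matrix ι ι F))
    (cs : Fin t → GL (Fin a) F) (π : Equiv.Perm (Fin t))
    (hg : (g : Matrix ι ι F) = conjMat L
      (pureMat (fun i => (cs i : Matrix (Fin a) (Fin a) F)) * factorPerm a π)) :
    g ∈ tensorWreathSubgroup a t σ P := by
  refine ⟨glReindex σ.symm (glPure cs * glFactorPerm a π),
    ⟨glPure cs * glFactorPerm a π, ?_, rfl⟩, Units.ext ?_⟩
  · exact Subgroup.mul_mem _ (Subgroup.subset_closure (Or.inl ⟨cs, fun x y => rfl⟩))
      (Subgroup.subset_closure (Or.inr ⟨π, fun x y => rfl⟩))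
  · rw [gl_conj_val, hg, hP]
    rfl

lemma sum_sigma_cons {M : Type*} [AddCommMonoid M] {a t : ℕ} (f : (Fin (t + 1) → Fin a) → M) :
    ∑ x, f x = ∑ i : Fin a, ∑ x : Fin t → Fin a, f (Fin.cons i x) := by
  rw [← Fintype.sum_prod_type']
  exact ((Fin.consEquiv fun _ => Fin a).sum_comp f).symm

/-- The linear extension of a family indexed like matrix units. -/
def unitsEval {μ : Type} [Fintype μ] (E : μ → μ → Matrix ι ι F) (Y : Matrix μ μ F) :
    Matrix ι ι F :=
  ∑ x, ∑ y, Y x y • E x y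

lemma unitsEval_conjMat (L : (κ → F) ≃ₗ[F] (ι → F)) {E : κ → κ → Matrix ι ι F}
    (hE : ∀ i j, E i j = conjMat L (Matrix.single i j 1)) (Y : Matrix κ κ F) :
    unitsEval E Y = conjMat L Y := by
  conv_rhs => rw [Matrix.matrix_eq_sum_single Y]
  simp only [unitsEval, map_sum, hE, ← map_smul]
  simp

lemma unitsEval_apply_algHom {μ : Type} [Fintype μ] [DecidableEq μ]
    (φ : Matrix μ μ F →ₐ[F] Matrix ι ι F) (Y : Matrix μ μ F) :
    unitsEval (fun i j => φ (Matrix.single i j 1)) Y = φ Y := by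
  conv_rhs => rw [Matrix.matrix_eq_sum_single Y]
  simp only [unitsEval, map_sum, ← map_smul]
  simp

lemma unitsEval_one {μ : Type} [Fintype μ] [DecidableEq μ] {E : μ → μ → Matrix ι ι F}
    (hE : IsUnitSystem E) : unitsEval E (1 : Matrix μ μ F) = 1 := by
  simp only [unitsEval, Matrix.one_apply, ite_smul, one_smul, zero_smul]
  simpa using hE.2

lemma unitsEval_cons {a t : ℕ} (A : Fin a → Fin a → Matrix ι ι F)
    (E : (Fin t → Fin a) → (Fin t → Fin a) → Matrix ι ι F)
    (Ys : Fin (t + 1) → Matrix (Fin a) (Fin a) F) :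
    unitsEval (fun x y => A (x 0) (y 0) * E (Fin.tail x) (Fin.tail y)) (pureMat Ys)
      = unitsEval A (Ys 0) * unitsEval E (pureMat fun k => Ys k.succ) := by
  have h1 : ∀ (i j : Fin a) (u v : Fin t → Fin a),
      pureMat Ys (Fin.cons i u) (Fin.cons j v) • (A i j * E u v)
        = (Ys 0 i j • A i j) * (pureMat (fun k => Ys k.succ) u v • E u v) := by
    intro i j u v
    have hp : pureMat Ys (Fin.cons i u) (Fin.cons j v)
        = Ys 0 i j * pureMat (fun k => Ys k.succ) u v := by
      simp [pureMat, Fin.prod_univ_succ]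
    rw [hp, Matrix.smul_mul, Matrix.mul_smul, smul_smul]
  simp only [unitsEval, sum_sigma_cons, Fin.cons_zero, Fin.tail_cons, h1]
  simp only [Finset.sum_mul, Finset.mul_sum]
  rw [Finset.sum_comm]
  exact Finset.sum_congr rfl fun u _ =>
    (Finset.sum_congr rfl fun i _ => Finset.sum_comm).trans Finset.sum_comm

/-- Commuting full matrix subalgebras give a system of matrix units of tensor type. -/
lemma exists_units_of_commuting {a : ℕ} : ∀ (t : ℕ)
    (φ : Fin t → (Matrix (Fin a) (Fin a) F →ₐ[F] Matrix ι ι F)),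
    (∀ i j, i ≠ j → ∀ Y Z, φ i Y * φ j Z = φ j Z * φ i Y) →
    ∃ E : (Fin t → Fin a) → (Fin t → Fin a) → Matrix ι ι F, IsUnitSystem E ∧
      (∀ x y, E x y ∈ ⨆ i, (φ i).range) ∧
      ∀ i Y, φ i Y = unitsEval E (pureMat (Function.update 1 i Y)) := by
  intro t
  induction t with
  | zero =>
    intro φ _
    exact ⟨fun _ _ => 1, ⟨fun i j k l => by simp [Subsingleton.elim j k], by simp⟩,
      fun x y => one_mem _, fun i => i.elim0⟩
  | succ t ih =>
    intro φ hφ
    obtain ⟨E, hE, hEmem, hEeval⟩ := ih (fun i => φ i.succ)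
      (fun i j hij => hφ _ _ fun h => hij (Fin.succ_injective _ h))
    have hcomm : ∀ Y x y, φ 0 Y * E x y = E x y * φ 0 Y := by
      intro Y x y
      have hle : (⨆ i : Fin t, (φ i.succ).range) ≤ Subalgebra.centralizer F {φ 0 Y} := by
        refine iSup_le fun i => ?_
        rintro _ ⟨Z, rfl⟩
        rw [Subalgebra.mem_centralizer_iff]
        rintro _ rfl
        exact hφ 0 i.succ (Fin.succ_ne_zero i).symm Y Z
      exact (Subalgebra.mem_centralizer_iff (R := F)).1 (hle (hEmem x y)) _ rfl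
    refine ⟨fun x y => φ 0 (Matrix.single (x 0) (y 0) 1) * E (Fin.tail x) (Fin.tail y),
      ⟨fun x y z w => ?_, ?_⟩, fun x y => ?_, fun i Y => ?_⟩
    · rw [mul_assoc, ← mul_assoc (E _ _), ← hcomm, mul_assoc, hE.1, ← mul_assoc, ← map_mul]
      by_cases h0 : y 0 = z 0
      · by_cases h1 : Fin.tail y = Fin.tail z
        · have : y = z := by rw [← Fin.cons_self_tail y, h0, h1, Fin.cons_self_tail]
          subst this
          simp
        · have : y ≠ z := fun h => h1 (by rw [h])
          simp [h1, this]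
      · have : y ≠ z := fun h => h0 (by rw [h])
        simp [Matrix.single_mul_single_of_ne _ _ _ _ h0, this]
    · rw [sum_sigma_cons]
      simp only [Fin.cons_zero, Fin.tail_cons, ← Finset.mul_sum, hE.2, mul_one, ← map_sum]
      rw [show ∑ i, Matrix.single i i (1 : F) = (1 : Matrix (Fin a) (Fin a) F) from
        (isUnitSystem_single (κ := Fin a) (F := F)).2, map_one]
    · refine mul_mem (le_iSup (fun i => (φ i).range) 0 ⟨_, rfl⟩) ?_
      exact (iSup_le fun i : Fin t => le_iSup (fun i => (φ i).range) i.succ) (hEmem _ _)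
    · rw [unitsEval_cons (fun i j => φ 0 (Matrix.single i j 1)) E, unitsEval_apply_algHom]
      induction i using Fin.cases with
      | zero =>
        rw [Function.update_self]
        have : (fun k : Fin t => (Function.update 1 0 Y : Fin (t + 1) → _) k.succ)
            = fun _ => (1 : Matrix (Fin a) (Fin a) F) := by
          funext k
          rw [Function.update_of_ne (Fin.succ_ne_zero k)]
          rfl
        rw [this, pureMat_one, unitsEval_one hE, mul_one]
      | succ i' =>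
        rw [Function.update_of_ne (Fin.succ_ne_zero i').symm, Pi.one_apply, map_one, one_mul,
          hEeval]
        congr 2
        funext k
        by_cases hk : k = i'
        · subst hk; simp
        · rw [Function.update_of_ne hk, Function.update_of_ne ((Fin.succ_injective _).ne hk)]
          rfl

lemma unitsEval_kronecker {μ : Type} [Fintype μ] [DecidableEq μ] {b : ℕ}
    (L : (μ × Fin b → F) ≃ₗ[F] (ι → F)) {E : μ → μ → Matrix ι ι F}
    (hE : ∀ i j, E i j = conjMat L (Matrix.single i j 1 ⊗ₖ (1 : Matrix (Fin b) (Fin b) F)))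
    (Y : Matrix μ μ F) :
    unitsEval E Y = conjMat L (Y ⊗ₖ (1 : Matrix (Fin b) (Fin b) F)) := by
  simp only [unitsEval, hE, ← map_smul, ← map_sum]
  congr 1
  ext ⟨p, s⟩ ⟨q, u⟩
  simp [Matrix.sum_apply, Matrix.smul_apply, Matrix.kroneckerMap_apply, Matrix.single_apply,
    ite_and]

/-- Commuting full matrix subalgebras generating everything give a tensor decomposition. -/
theorem exists_tensor_coords [Nonempty ι] {a t : ℕ} (ha : 0 < a)
    (φ : Fin t → (Matrix (Fin a) (Fin a) F →ₐ[F] Matrix ι ι F))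
    (hcomm : ∀ i j, i ≠ j → ∀ Y Z, φ i Y * φ j Z = φ j Z * φ i Y)
    (hgen : (⨆ i, (φ i).range) = ⊤) :
    ∃ L : ((Fin t → Fin a) → F) ≃ₗ[F] (ι → F),
      ∀ i Y, φ i Y = conjMat L (pureMat (Function.update 1 i Y)) := by
  haveI : Nonempty (Fin t → Fin a) := ⟨fun _ => ⟨0, ha⟩⟩
  obtain ⟨E, hE, -, hEeval⟩ := exists_units_of_commuting t φ hcomm
  obtain ⟨b, L, hb, hc, hLE⟩ := exists_equiv_of_isUnitSystem hE
  have hb1 : b = 1 := by
    by_contra hb1
    set z : Matrix ι ι F := conjMat L ((1 : Matrix (Fin t → Fin a) (Fin t → Fin a) F) ⊗ₖ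
      Matrix.single (⟨0, hb⟩ : Fin b) ⟨0, hb⟩ (1 : F)) with hzdef
    have hz : ∀ X : Matrix ι ι F, z * X = X * z := by
      intro X
      have hle : (⨆ i, (φ i).range) ≤ Subalgebra.centralizer F {z} := by
        refine iSup_le fun i => ?_
        rintro _ ⟨Y, rfl⟩
        rw [Subalgebra.mem_centralizer_iff]
        rintro _ rfl
        show z * φ i Y = φ i Y * z
        rw [hEeval, unitsEval_kronecker L hLE, hzdef, ← map_mul, ← map_mul,
          ← Matrix.mul_kronecker_mul, ← Matrix.mul_kronecker_mul]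
        simp
      exact (Subalgebra.mem_centralizer_iff (R := F)).1
        (hle (hgen ▸ Algebra.mem_top : X ∈ _)) z rfl
    have h2 := hz (conjMat L ((1 : Matrix (Fin t → Fin a) (Fin t → Fin a) F) ⊗ₖ
      Matrix.single (⟨0, hb⟩ : Fin b) ⟨1, by omega⟩ (1 : F)))
    rw [hzdef, ← map_mul, ← map_mul, ← Matrix.mul_kronecker_mul, ← Matrix.mul_kronecker_mul,
      one_mul] at h2
    have h3 := congrFun (congrFun ((conjMat L).injective h2)
      (Classical.arbitrary _, ⟨0, hb⟩)) (Classical.arbitrary _, ⟨1, by omega⟩)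
    simp at h3
  subst hb1
  obtain ⟨L', hL'⟩ := exists_equiv_of_isUnitSystem_full hE (by simpa using hc)
  exact ⟨L', fun i Y => by rw [hEeval, unitsEval_conjMat L' hL']⟩

/-- Transport of an invertible matrix. -/
noncomputable def glConjMat (L : (κ → F) ≃ₗ[F] (ι → F)) (u : GL κ F) : GL ι F where
  val := conjMat L (u : Matrix κ κ F)
  inv := conjMat L ((u⁻¹ : GL κ F) : Matrix κ κ F)
  val_inv := by rw [← map_mul, Units.mul_inv, map_one]
  inv_val := by rw [← map_mul, Units.inv_mul, map_one]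

lemma conjGL_eq_of_mul_eq {g : GL ι F} {X Y : Matrix ι ι F}
    (h : (g : Matrix ι ι F) * X = Y * (g : Matrix ι ι F)) : conjGL g X = Y := by
  rw [conjGL_apply, h]
  simp [mul_assoc]

/-- An element permuting the factors of a tensor decomposition is a pure tensor times a
permutation of factors. -/
theorem normaliser_pure [Nonempty ι] {a t : ℕ} (ha : 0 < a) [NeZero t]
    {φ : Fin t → (Matrix (Fin a) (Fin a) F →ₐ[F] Matrix ι ι F)}
    {L : ((Fin t → Fin a) → F) ≃ₗ[F] (ι → F)}
    (hL : ∀ i Y, φ i Y = conjMat L (pureMat (Function.update 1 i Y)))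
    (hgen : (⨆ i, (φ i).range) = ⊤)
    (hinj : ∀ i, Function.Injective (φ i)) {g : GL ι F} (π : Equiv.Perm (Fin t))
    (hg : ∀ i, ∀ x ∈ (φ i).range, conjGL g x ∈ (φ (π i)).range) :
    ∃ cs : Fin t → GL (Fin a) F, (g : Matrix ι ι F) = conjMat L
      (pureMat (fun i => (cs i : Matrix (Fin a) (Fin a) F)) * factorPerm a π) := by
  haveI : Nonempty (Fin a) := ⟨⟨0, ha⟩⟩
  have hθ : ∀ i, ∃ c : GL (Fin a) F, ∀ Y, conjGL g (φ i Y) =
      φ (π i) ((c : Matrix (Fin a) (Fin a) F) * Y
        * ((c⁻¹ : GL (Fin a) F) : Matrix (Fin a) (Fin a) F)) := by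
    intro i
    let E := AlgEquiv.ofInjective (φ (π i)) (hinj (π i))
    let m : Matrix (Fin a) (Fin a) F →ₐ[F] (φ (π i)).range :=
      ((conjGL g).toAlgHom.comp (φ i)).codRestrict _ (fun Y => hg i _ ⟨Y, rfl⟩)
    obtain ⟨c, hc⟩ := exists_conj_of_algHom (E.symm.toAlgHom.comp m) (AlgHom.id F _)
    refine ⟨c, fun Y => ?_⟩
    rw [show (c : Matrix (Fin a) (Fin a) F) * Y
        * ((c⁻¹ : GL (Fin a) F) : Matrix (Fin a) (Fin a) F) = E.symm (m Y) from (hc Y).symm]
    exact (congrArg Subtype.val (E.apply_symm_apply (m Y))).symm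
  choose c hc using hθ
  set cs : Fin t → GL (Fin a) F := fun j => c (π.symm j) with hcs
  set M : Matrix (Fin t → Fin a) (Fin t → Fin a) F :=
    pureMat (fun j => (cs j : Matrix (Fin a) (Fin a) F)) * factorPerm a π with hM
  set T : GL ι F := glConjMat L (glPure cs * glFactorPerm a π) with hT
  have hTval : (T : Matrix ι ι F) = conjMat L M := rfl
  have hswap : ∀ i Y, M * pureMat (Function.update 1 i Y) = pureMat (Function.update 1 (π i)
      ((c i : Matrix (Fin a) (Fin a) F) * Y
        * (((c i)⁻¹ : GL (Fin a) F) : Matrix (Fin a) (Fin a) F))) * M := by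
    intro i Y
    have h1 : factorPerm a π * pureMat (Function.update 1 i Y)
        = pureMat (Function.update 1 (π i) Y) * factorPerm (F := F) a π := by
      rw [pureMat_mul_factorPerm]
      congr 2
      funext k
      by_cases hk : k = i
      · subst hk; simp
      · rw [Function.update_of_ne hk, Function.update_of_ne (fun h => hk (π.injective h))]
        rfl
    rw [hM, mul_assoc, h1, ← mul_assoc, ← mul_assoc, pureMat_mul, pureMat_mul]
    congr 2
    funext j
    by_cases hj : j = π i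
    · subst hj
      simp [hcs, mul_assoc]
    · simp [Function.update_of_ne hj]
  have hscal : ∀ X : Matrix ι ι F, conjGL T X = conjGL g X := by
    intro X
    have hle : (⨆ i, (φ i).range) ≤
        AlgHom.equalizer (conjGL T).toAlgHom (conjGL g).toAlgHom := by
      refine iSup_le fun i => ?_
      rintro _ ⟨Y, rfl⟩
      show conjGL T (φ i Y) = conjGL g (φ i Y)
      rw [hc i Y]
      refine conjGL_eq_of_mul_eq ?_
      rw [hL, hL, hTval, ← map_mul, ← map_mul, hswap]
    exact hle (hgen ▸ Algebra.mem_top : X ∈ _)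
  have hz : ∀ X : Matrix ι ι F, Commute ((T⁻¹ * g : GL ι F) : Matrix ι ι F) X := fun X => by
    have h1 : conjGL (T⁻¹ * g) X = X := by
      rw [conjGL_mul, ← hscal, conjGL_apply_inv]
    exact (conjGL_eq_self_iff _ _).1 h1
  obtain ⟨s, hs⟩ : ((T⁻¹ * g : GL ι F) : Matrix ι ι F) ∈ Set.range (Matrix.scalar ι) :=
    Matrix.mem_range_scalar_iff_commute_single'.2 fun i j => (hz _).symm
  have hs0 : s ≠ 0 := by
    intro h0
    rw [h0, map_zero] at hs
    exact (T⁻¹ * g).ne_zero hs.symm
  refine ⟨Function.update cs 0 (Matrix.GeneralLinearGroup.mkOfDetNeZero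
    (s • (cs 0 : Matrix (Fin a) (Fin a) F)) ?_), ?_⟩
  · rw [Matrix.det_smul]
    exact mul_ne_zero (pow_ne_zero _ hs0) ((Matrix.isUnit_iff_isUnit_det _).1 (cs 0).isUnit).ne_zero
  · have hg' : (g : Matrix ι ι F) = s • (T : Matrix ι ι F) := by
      calc (g : Matrix ι ι F) = (T : Matrix ι ι F) * ((T⁻¹ * g : GL ι F) : Matrix ι ι F) := by
            simp [← mul_assoc]
        _ = _ := by rw [← hs, Matrix.scalar_apply, ← Matrix.smul_one_eq_diagonal, Matrix.mul_smul, mul_one]
    rw [hg', hTval, hM, ← map_smul, ← Matrix.smul_mul]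
    congr 2
    have hupd : ∀ h, (fun j => ((Function.update cs 0 (Matrix.GeneralLinearGroup.mkOfDetNeZero
        (s • (cs 0 : Matrix (Fin a) (Fin a) F)) h) j : GL (Fin a) F) :
        Matrix (Fin a) (Fin a) F))
        = fun j => (if j = 0 then s else 1) • (cs j : Matrix (Fin a) (Fin a) F) := by
      intro h
      funext j
      by_cases hj : j = 0
      · subst hj; simp
      · simp [hj]
    rw [hupd, pureMat_smul]
    simp

end Cfsg.Agent.GeoClasses
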