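import Mathlib
import Cfsg.Prelude.Def_GeometricClasses
import Cfsg.Agent.GeoClasses.Basic
import Cfsg.Agent.GeoClasses.MatrixUnits
import Cfsg.Agent.GeoClasses.Algebra
import Cfsg.Agent.GeoClasses.Tensor
import Cfsg.Agent.GeoClasses.Forms

/-!
Descent to subfields: realisability over a subfield, and containment in subfield subgroups.
-/

set_option autoImplicit false
set_option maxHeartbeats 400000

namespace Cfsg.Agent.GeoClasses

open Matrix Cfsg.Geo
open scoped MatrixGroups Matrix Kronecker

variable {ι : Type} [Fintype ι] [DecidableEq ι] {F : Type*} [Field F]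

/-- Matrices with entries in a subfield, as a subalgebra over that subfield. -/
def subfieldMatrices (F₀ : Subfield F) : Subalgebra F₀ (Matrix ι ι F) :=
  (AlgHom.mapMatrix (Algebra.ofId F₀ F) : Matrix ι ι F₀ →ₐ[F₀] Matrix ι ι F).range

lemma mem_subfieldMatrices {F₀ : Subfield F} {X : Matrix ι ι F} :
    X ∈ subfieldMatrices F₀ ↔ ∀ i j, X i j ∈ F₀ := by
  constructor
  · rintro ⟨Y, rfl⟩ i j
    exact (Y i j).2
  · intro h
    exact ⟨fun i j => ⟨X i j, h i j⟩, rfl⟩

lemma exists_frobenius_fixedSubfield [Finite F] (F₀ : Subfield F) :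
    ∃ τ : F ≃+* F, (∀ a, τ a = a ↔ a ∈ F₀) ∧ ∀ a, τ a = a ^ Nat.card F₀ := by
  classical
  haveI : Fintype F₀ := Fintype.ofFinite F₀
  haveI : Fintype F := Fintype.ofFinite F
  set τ := (FiniteField.frobeniusAlgEquivOfAlgebraic F₀ F).toRingEquiv with hτ
  have hτa : ∀ a, τ a = a ^ Nat.card F₀ := fun a => by
    simp [hτ, FiniteField.coe_frobeniusAlgEquivOfAlgebraic, Nat.card_eq_fintype_card]
  refine ⟨τ, fun a => ⟨fun ha => ?_, fun ha => ?_⟩, hτa⟩
  · set S : Set F := {x | τ x = x} with hS
    have hsub : (F₀ : Set F) ⊆ S := fun x hx => by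
      show τ x = x
      rw [hτa]
      have := FiniteField.pow_card (⟨x, hx⟩ : F₀)
      rw [← Nat.card_eq_fintype_card] at this
      simpa using congrArg Subtype.val this
    have h2 : 1 < Nat.card F₀ := Finite.one_lt_card
    have hle : S.ncard ≤ Nat.card F₀ := by
      set p : Polynomial F := Polynomial.X ^ Nat.card F₀ - Polynomial.X with hp
      have hp0 : p ≠ 0 := FiniteField.X_pow_card_sub_X_ne_zero F h2
      have hsub' : S ⊆ ↑p.roots.toFinset := fun x (hx : τ x = x) => by
        rw [Finset.mem_coe, Multiset.mem_toFinset, Polynomial.mem_roots hp0, hp]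
        rw [hτa] at hx
        simp [hx, -Nat.card_eq_fintype_card]
      refine (Set.ncard_le_ncard hsub').trans ?_
      rw [Set.ncard_coe_finset]
      exact (Multiset.toFinset_card_le _).trans ((Polynomial.card_roots' _).trans
        (FiniteField.X_pow_card_sub_X_natDegree_eq F h2).le)
    have heq : (F₀ : Set F) = S := Set.eq_of_subset_of_ncard_le hsub
      (hle.trans (by rw [← Nat.card_coe_set_eq]; rfl))
    have : a ∈ S := ha
    rw [← heq] at this
    exact this
  · rw [hτa]
    have := FiniteField.pow_card (⟨a, ha⟩ : F₀)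
    rw [← Nat.card_eq_fintype_card] at this
    simpa using congrArg Subtype.val this

lemma isUnitSystem_map_algHom {F₀ : Subfield F} {κ : Type} [Fintype κ] [DecidableEq κ]
    (φ : Matrix κ κ F₀ →ₐ[F₀] Matrix ι ι F) :
    IsUnitSystem fun i j : κ => φ (Matrix.single i j 1) := by
  refine ⟨fun i j k l => ?_, ?_⟩
  · dsimp
    rw [← map_mul, isUnitSystem_single.1]
    split_ifs <;> simp
  · dsimp
    rw [← map_sum, isUnitSystem_single.2, map_one]

/-- An algebra over a subfield of the right dimension spanning all matrices is conjugate to the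
matrices over the subfield. -/
theorem exists_conj_into_subfield [Nonempty ι] [Finite F] (F₀ : Subfield F)
    (A₀ : Subalgebra F₀ (Matrix ι ι F))
    (hspan : Submodule.span F (A₀ : Set (Matrix ι ι F)) = ⊤)
    (hdim : Module.finrank F₀ A₀ ≤ Fintype.card ι * Fintype.card ι) :
    ∃ B : GL ι F, ∀ X, X ∈ A₀ ↔ conjGL B X ∈ subfieldMatrices F₀ := by
  classical
  haveI : Fintype F₀ := Fintype.ofFinite F₀
  haveI : Module.Finite F₀ A₀ := Module.Finite.of_finite
  set N := Fintype.card ι * Fintype.card ι with hN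
  -- an `F₀`-basis of `A₀` is an `F`-basis of all matrices
  set b := Module.finBasis F₀ A₀ with hb
  set v : Fin (Module.finrank F₀ A₀) → Matrix ι ι F := fun i => (b i : Matrix ι ι F) with hv
  have hvspan : Submodule.span F (Set.range v) = ⊤ := by
    rw [eq_top_iff, ← hspan, Submodule.span_le]
    intro X hX
    have : (⟨X, hX⟩ : A₀) = ∑ i, b.repr ⟨X, hX⟩ i • b i := (b.sum_repr _).symm
    have h2 := congrArg Subtype.val this
    simp only [AddSubmonoidClass.coe_finsetSum, SetLike.val_smul] at h2
    rw [h2]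
    refine Submodule.sum_mem _ fun i _ => ?_
    exact Submodule.smul_mem _ ((b.repr ⟨X, hX⟩ i : F₀) : F) (Submodule.subset_span ⟨i, rfl⟩)
  have hvN : Module.finrank F (Matrix ι ι F) = N := by
    rw [Module.finrank_matrix, Module.finrank_self, mul_one]
  have hcardeq : Module.finrank F₀ A₀ = N := by
    refine le_antisymm hdim ?_
    have := finrank_range_le_card (R := F) v
    rwa [Set.finrank, hvspan, finrank_top, hvN, Fintype.card_fin] at this
  have hvli : LinearIndependent F v := by
    rw [linearIndependent_iff_card_eq_finrank_span, Set.finrank, hvspan, finrank_top, hvN,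
      Fintype.card_fin, hcardeq]
  have hcomm_all : ∀ z : Matrix ι ι F, (∀ a ∈ A₀, z * a = a * z) → ∀ X, z * X = X * z := by
    intro z hz X
    have hX : X ∈ Submodule.span F (A₀ : Set (Matrix ι ι F)) := hspan ▸ Submodule.mem_top
    induction hX using Submodule.span_induction with
    | mem x hx => exact hz x hx
    | zero => simp
    | add x y _ _ hx hy => rw [mul_add, add_mul, hx, hy]
    | smul c x _ hx => rw [Matrix.mul_smul, Matrix.smul_mul, hx]
  haveI : Nontrivial A₀ := ⟨0, 1, fun h => zero_ne_one (congrArg Subtype.val h)⟩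
  haveI : IsArtinianRing A₀ := inferInstance
  haveI : IsSemisimpleRing A₀ := by
    rw [IsArtinianRing.isSemisimpleRing_iff_jacobson]
    obtain ⟨k, hk⟩ := (inferInstance : IsSemiprimaryRing A₀).isNilpotent
    set J := Ring.jacobson A₀ with hJ
    haveI : J.IsTwoSided := by rw [hJ]; infer_instance
    set W : Submodule F (ι → F) := ⨅ a ∈ J, LinearMap.ker (Matrix.toLin' (a : Matrix ι ι F))
      with hW
    have hWmem : ∀ w, w ∈ W ↔ ∀ a ∈ J, (a : Matrix ι ι F) *ᵥ w = 0 := fun w => by
      simp [hW, Submodule.mem_iInf]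
    have hWinv : ∀ X : Matrix ι ι F, ∀ w ∈ W, X *ᵥ w ∈ W := by
      intro X w hw
      have hX : X ∈ Submodule.span F (A₀ : Set (Matrix ι ι F)) := hspan ▸ Submodule.mem_top
      induction hX using Submodule.span_induction with
      | mem x hx =>
        rw [hWmem]
        intro a ha
        rw [Matrix.mulVec_mulVec]
        exact (hWmem w).1 hw _ (Ideal.mul_mem_right (⟨x, hx⟩ : A₀) J ha)
      | zero => simp
      | add x y _ _ hx hy => rw [Matrix.add_mulVec]; exact W.add_mem hx hy
      | smul c x _ hx => rw [Matrix.smul_mulVec]; exact W.smul_mem c hx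
    have hW0 : ∃ w ∈ W, w ≠ 0 := by
      by_contra hno
      push Not at hno
      have hstep : ∀ m : ℕ, ∃ y ∈ J ^ m, ∃ w : ι → F, (y : Matrix ι ι F) *ᵥ w ≠ 0 := by
        intro m
        induction m with
        | zero =>
          exact ⟨1, by rw [Submodule.pow_zero, Ideal.one_eq_top]; exact Submodule.mem_top,
            fun _ => 1, by
              simpa using fun h : (fun _ : ι => (1 : F)) = 0 =>
                one_ne_zero (congrFun h (Classical.arbitrary ι))⟩
        | succ m ih =>
          obtain ⟨y, hy, w, hyw⟩ := ih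
          have hnW : (y : Matrix ι ι F) *ᵥ w ∉ W := fun hmem => hyw (hno _ hmem)
          rw [hWmem] at hnW
          push Not at hnW
          obtain ⟨x, hx, hxw⟩ := hnW
          refine ⟨x * y, ?_, w, by simpa [Matrix.mulVec_mulVec] using hxw⟩
          rw [Ideal.IsTwoSided.pow_succ]
          exact Ideal.mul_mem_mul hx hy
      obtain ⟨y, hy, w, hyw⟩ := hstep k
      rw [hk, Submodule.zero_eq_bot, Submodule.mem_bot] at hy
      simp [hy] at hyw
    obtain ⟨w, hw, hw0⟩ := hW0
    obtain ⟨i, hi⟩ := Function.ne_iff.1 hw0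
    have hsingle : ∀ u, (Pi.single u 1 : ι → F) ∈ W := fun u => by
      have := hWinv (Matrix.single u i (w i)⁻¹) w hw
      convert this using 1
      ext x
      by_cases hx : x = u
      · subst hx
        simp [Matrix.mulVec, dotProduct, Matrix.single_apply, Finset.sum_ite_eq,
          inv_mul_cancel₀ hi]
      · simp [Matrix.mulVec, dotProduct, Matrix.single_apply, hx, Ne.symm hx]
    rw [eq_bot_iff]
    intro a ha
    refine Subtype.ext (mat_ext_mulVec fun u => ?_)
    have hu : u ∈ W := by
      rw [pi_eq_sum_univ' u]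
      exact Submodule.sum_mem _ fun x _ => W.smul_mem _ (hsingle x)
    simpa using (hWmem u).1 hu a ha
  obtain ⟨a, ha, ⟨E⟩⟩ := exists_matrix_algEquiv_of_central (K := F₀) (R := A₀) (fun z hz => by
    obtain ⟨c, hc⟩ : ∃ c : F, (z : Matrix ι ι F) = c • 1 := by
      obtain ⟨c, hc⟩ : (z : Matrix ι ι F) ∈ Set.range (Matrix.scalar ι) :=
        Matrix.mem_range_scalar_iff_commute_single'.2 fun i j =>
          (hcomm_all z (fun x hx => congrArg Subtype.val (hz ⟨x, hx⟩)) _).symm
      exact ⟨c, by rw [← hc, Matrix.scalar_apply, Matrix.smul_one_eq_diagonal]⟩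
    set x := b.repr (1 : A₀) with hx
    set y := b.repr z with hy
    have h1 : ∑ i, ((x i : F)) • v i = 1 := by
      have := congrArg Subtype.val (b.sum_repr (1 : A₀))
      rw [AddSubmonoidClass.coe_finsetSum] at this
      exact this
    have h2 : ∑ i, ((y i : F)) • v i = c • 1 := by
      have := congrArg Subtype.val (b.sum_repr z)
      rw [AddSubmonoidClass.coe_finsetSum] at this
      rw [← hc]
      exact this
    have h3 : ∑ i, ((y i : F) - c * (x i : F)) • v i = 0 := by
      simp only [sub_smul, Finset.sum_sub_distrib, h2, mul_smul, ← Finset.smul_sum, h1, sub_self]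
    have h4 := Fintype.linearIndependent_iff.1 hvli _ h3
    obtain ⟨i, hi⟩ : ∃ i, (x i : F) ≠ 0 := by
      by_contra h
      push Not at h
      simp [h] at h1
    refine ⟨y i / x i, Subtype.ext ?_⟩
    rw [hc, Subalgebra.coe_algebraMap, Algebra.algebraMap_eq_smul_one, Subfield.smul_def]
    congr 1
    have := sub_eq_zero.1 (h4 i)
    push_cast
    rw [this, mul_div_assoc, div_self hi, mul_one])
  have ha' : a = Fintype.card ι := by
    have := E.toLinearEquiv.finrank_eq
    rw [Module.finrank_matrix, Module.finrank_self, mul_one, Fintype.card_fin, hcardeq, hN] at this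
    exact Nat.mul_self_inj.1 this
  haveI : Nonempty (Fin a) := ⟨⟨0, ha⟩⟩
  let φ : Matrix (Fin a) (Fin a) F₀ →ₐ[F₀] Matrix ι ι F := A₀.val.comp E.toAlgHom
  obtain ⟨L, hL⟩ := exists_equiv_of_isUnitSystem_full
    (isUnitSystem_map_algHom φ) (by simp [ha'])
  obtain ⟨P, hP⟩ := exists_conj_reindex L ((Fintype.equivFin ι).trans (finCongr ha'.symm))
  set σe := (Fintype.equivFin ι).trans (finCongr ha'.symm) with hσe
  have hφ : ∀ Y : Matrix (Fin a) (Fin a) F₀,
      φ Y = (P : Matrix ι ι F) * Matrix.reindexAlgEquiv F F σe.symm (Y.map (algebraMap F₀ F))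
        * ((P⁻¹ : GL ι F) : Matrix ι ι F) := by
    intro Y
    rw [← hP]
    induction Y using Matrix.induction_on' with
    | h_zero => simp
    | h_add p q hp hq => rw [map_add, hp, hq, Matrix.map_add _ (by simp), map_add]
    | h_std_basis i j x =>
      have hx : Matrix.single i j x = x • Matrix.single i j (1 : F₀) := by simp
      rw [hx, map_smul]
      have h5 : φ (Matrix.single i j 1) = conjMat L (Matrix.single i j 1) := hL i j
      rw [h5]
      have hmap : (x • Matrix.single i j (1 : F₀)).map (algebraMap F₀ F)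
          = ((x : F)) • Matrix.single i j (1 : F) := by
        ext p q
        by_cases hpq : i = p ∧ j = q
        · obtain ⟨rfl, rfl⟩ := hpq
          simp; rfl
        · simp [Matrix.single_apply, hpq]
      rw [hmap, map_smul, Subfield.smul_def]
  refine ⟨P⁻¹, fun X => ⟨fun hX => ?_, fun hX => ?_⟩⟩
  · have h6 : φ (E.symm ⟨X, hX⟩) = X := by simp [φ]
    rw [← h6, hφ, conjGL_apply]
    simp only [inv_inv, ← mul_assoc, Units.inv_mul, one_mul]
    simp only [mul_assoc, Units.inv_mul, mul_one]
    rw [mem_subfieldMatrices]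
    intro i j
    exact ((E.symm ⟨X, hX⟩) (σe i) (σe j)).2
  · rw [mem_subfieldMatrices] at hX
    let Y : Matrix (Fin a) (Fin a) F₀ :=
      fun i j => ⟨conjGL P⁻¹ X (σe.symm i) (σe.symm j), hX _ _⟩
    have hY : φ Y = X := by
      rw [hφ]
      have h7 : Matrix.reindexAlgEquiv F F σe.symm (Y.map (algebraMap F₀ F)) = conjGL P⁻¹ X := by
        ext i j
        show conjGL P⁻¹ X (σe.symm (σe i)) (σe.symm (σe j)) = _
        rw [Equiv.symm_apply_apply, Equiv.symm_apply_apply]
      rw [h7, conjGL_apply]
      simp [mul_assoc]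
    rw [← hY]
    exact (E Y).2

lemma map_subtype_mem_subfieldMatrices {F₀ : Subfield F} (g : GL ι F₀) :
    ((Matrix.GeneralLinearGroup.map (F₀.subtype : F₀ →+* F) g : GL ι F) : Matrix ι ι F)
      ∈ subfieldMatrices F₀ :=
  mem_subfieldMatrices.2 fun i j => ((g : Matrix ι ι F₀) i j).2

/-- An element normalising the matrices over a subfield is a scalar times a matrix over it. -/
theorem mem_range_sup_scalars_of_normalises [Nonempty ι] {F₀ : Subfield F} {h : GL ι F}
    (hn : ∀ X ∈ subfieldMatrices F₀, conjGL h X ∈ subfieldMatrices F₀) :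
    h ∈ (Matrix.GeneralLinearGroup.map (F₀.subtype : F₀ →+* F)).range ⊔ scalars ι F := by
  classical
  let η : Matrix ι ι F₀ →ₐ[F₀] Matrix ι ι F := AlgHom.mapMatrix (Algebra.ofId F₀ F)
  have hηinj : Function.Injective η := fun X Y hXY => by
    ext i j
    exact congrFun (congrFun hXY i) j
  let E := AlgEquiv.ofInjective η hηinj
  let m : Matrix ι ι F₀ →ₐ[F₀] η.range :=
    (((conjGL h).toAlgHom.restrictScalars F₀).comp η).codRestrict _ (fun Y => hn _ ⟨Y, rfl⟩)
  obtain ⟨c, hc⟩ := exists_conj_of_algHom (E.symm.toAlgHom.comp m) (AlgHom.id F₀ _)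
  set c' : GL ι F := Matrix.GeneralLinearGroup.map (F₀.subtype : F₀ →+* F) c with hc'
  have hcomm : ∀ Y : Matrix ι ι F₀, conjGL (c'⁻¹ * h) (η Y) = η Y := by
    intro Y
    have h1 : conjGL h (η Y) = η (E.symm (m Y)) :=
      (congrArg Subtype.val (E.apply_symm_apply (m Y))).symm
    have h2 : η (E.symm (m Y)) = conjGL c' (η Y) := by
      rw [show E.symm (m Y) = _ from hc Y, map_mul, map_mul]
      rfl
    rw [conjGL_mul, h1, h2, conjGL_apply_inv]
  obtain ⟨s, hs⟩ : ((c'⁻¹ * h : GL ι F) : Matrix ι ι F) ∈ Set.range (Matrix.scalar ι) :=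
    Matrix.mem_range_scalar_iff_commute_single'.2 fun i j => by
      have h3 := (conjGL_eq_self_iff _ _).1 (hcomm (Matrix.single i j 1))
      have h4 : η (Matrix.single i j 1) = Matrix.single i j 1 := by
        ext p q
        simp [η, Matrix.single_apply, apply_ite]
      rw [h4] at h3
      exact h3.symm
  have hs0 : s ≠ 0 := by
    intro h0
    rw [h0, map_zero] at hs
    exact (c'⁻¹ * h).ne_zero hs.symm
  rw [← mul_inv_cancel_left c' h]
  refine Subgroup.mul_mem_sup ⟨c, rfl⟩ ((mem_scalars_iff _).2 ⟨Units.mk0 s hs0, ?_⟩)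
  rw [← hs, Matrix.scalar_apply, Matrix.smul_one_eq_diagonal, Units.val_mk0]

lemma conjGL_restrictScalars_inj {g : GL ι F} {X Y : Matrix ι ι F}
    (h : conjGL g X = conjGL g Y) : X = Y := (conjGL g).injective h

/-- A group normalising an absolutely irreducible group realisable over a subfield lies in the
subfield group, in the same coordinates. -/
theorem le_subfieldSubgroup [Nonempty ι] [Finite F] {F₀ : Subfield F} {G R : Subgroup (GL ι F)}
    (hR : spanAlg R = ⊤) (hn : ∀ g ∈ G, ∀ x ∈ R, g * x * g⁻¹ ∈ R) {B : GL ι F}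
    (hB : ∀ x ∈ R, conjGL B (x : Matrix ι ι F) ∈ subfieldMatrices F₀) :
    G ≤ subfieldSubgroup F₀ B⁻¹ := by
  classical
  haveI : Fintype F₀ := Fintype.ofFinite F₀
  -- the conjugated group spans all matrices
  set S : Set (Matrix ι ι F) := (fun g : GL ι F => conjGL B (g : Matrix ι ι F)) '' (R : Set (GL ι F))
    with hS
  have hSspan : Submodule.span F S = ⊤ := by
    have h1 : S = conjGL B '' matrixSet R := by rw [hS, matrixSet, Set.image_image]
    rw [h1, show (conjGL B : Matrix ι ι F → Matrix ι ι F)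
      = ((conjGL B).toLinearEquiv : Matrix ι ι F →ₗ[F] Matrix ι ι F) from rfl,
      Submodule.span_image, ← spanAlg_toSubmodule, hR, Algebra.top_toSubmodule, Submodule.map_top]
    exact LinearMap.range_eq_top.2 (conjGL B).surjective
  set A : Subalgebra F₀ (Matrix ι ι F) := Algebra.adjoin F₀ S with hA
  have hAle : A ≤ subfieldMatrices F₀ :=
    Algebra.adjoin_le (by rintro _ ⟨x, hx, rfl⟩; exact hB x hx)
  have hAeq : subfieldMatrices F₀ ≤ A := by
    have hspanA : Submodule.span F (A : Set (Matrix ι ι F)) = ⊤ :=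
      top_le_iff.1 (hSspan ▸ Submodule.span_mono Algebra.subset_adjoin)
    have h2 : Module.finrank F₀ A.toSubmodule
        = Module.finrank F₀ (subfieldMatrices (ι := ι) F₀).toSubmodule := by
      refine le_antisymm (Submodule.finrank_mono hAle) ?_
      have hup : Module.finrank F₀ (subfieldMatrices (ι := ι) F₀).toSubmodule
          ≤ Fintype.card ι * Fintype.card ι := by
        have := LinearMap.finrank_range_le
          (AlgHom.mapMatrix (Algebra.ofId F₀ F) : Matrix ι ι F₀ →ₐ[F₀] Matrix ι ι F).toLinearMap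
        rw [Module.finrank_matrix, Module.finrank_self, mul_one] at this
        exact this
      refine hup.trans ?_
      set b := Module.finBasis F₀ A.toSubmodule
      have hb : Submodule.span F (Set.range fun i => (b i : Matrix ι ι F)) = ⊤ := by
        rw [eq_top_iff, ← hspanA, Submodule.span_le]
        intro X hX
        have h3 := congrArg Subtype.val (b.sum_repr (⟨X, hX⟩ : A.toSubmodule))
        simp only [AddSubmonoidClass.coe_finsetSum, SetLike.val_smul] at h3
        rw [← h3]
        exact Submodule.sum_mem _ fun i _ =>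
          Submodule.smul_mem _ ((b.repr ⟨X, hX⟩ i : F₀) : F) (Submodule.subset_span ⟨i, rfl⟩)
      have h4 := finrank_range_le_card (R := F) fun i => (b i : Matrix ι ι F)
      rw [Set.finrank, hb, finrank_top, Module.finrank_matrix, Module.finrank_self, mul_one,
        Fintype.card_fin] at h4
      exact h4
    have h5 := Submodule.eq_of_le_of_finrank_eq (show A.toSubmodule ≤ _ from hAle) h2
    intro X hX
    have h6 : X ∈ (subfieldMatrices (ι := ι) F₀).toSubmodule := hX
    rw [← h5] at h6
    exact h6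
  intro g hg
  set g' := B * g * B⁻¹ with hg'
  have hn' : ∀ X ∈ subfieldMatrices F₀, conjGL g' X ∈ subfieldMatrices F₀ := by
    intro X hX
    have hle : A.map ((conjGL g').toAlgHom.restrictScalars F₀) ≤ subfieldMatrices F₀ := by
      rw [hA, AlgHom.map_adjoin]
      refine Algebra.adjoin_le ?_
      rintro _ ⟨_, ⟨x, hx, rfl⟩, rfl⟩
      show conjGL g' (conjGL B (x : Matrix ι ι F)) ∈ subfieldMatrices F₀
      have h3 := hB _ (hn g hg x hx)
      convert h3 using 1
      simp [hg', mul_assoc]
    exact hle ⟨X, hAeq hX, rfl⟩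
  refine ⟨g', mem_range_sup_scalars_of_normalises hn', ?_⟩
  simp [hg', MulAut.conj_apply, mul_assoc]

/-- Realisability from coordinates: if `R` has an `F`-basis of matrices in which all its elements
have coordinates in `F₀`, it is realisable over `F₀`. -/
theorem realisable_of_coords [Nonempty ι] [Finite F] {F₀ : Subfield F} {R : Subgroup (GL ι F)}
    (hR : spanAlg R = ⊤) {κ : Type*} [Fintype κ] (x : κ → GL ι F) (hx : ∀ i, x i ∈ R)
    (hcard : Fintype.card κ ≤ Fintype.card ι * Fintype.card ι)
    (hcoord : ∀ g ∈ R, ∃ c : κ → F₀, (g : Matrix ι ι F) = ∑ i, (c i : F) • (x i : Matrix ι ι F)) :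
    ∃ B : GL ι F, ∀ g ∈ R, conjGL B (g : Matrix ι ι F) ∈ subfieldMatrices F₀ := by
  classical
  set A₀ : Subalgebra F₀ (Matrix ι ι F) := Algebra.adjoin F₀ (matrixSet R) with hA₀
  have hsub : A₀.toSubmodule = Submodule.span F₀ (Set.range fun i => (x i : Matrix ι ι F)) := by
    rw [hA₀, Algebra.adjoin_eq_span]
    refine le_antisymm (Submodule.span_le.2 ?_) (Submodule.span_mono ?_)
    · intro X hX
      have hmem : X ∈ matrixSet R := by
        induction hX using Submonoid.closure_induction with
        | mem x hx => exact hx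
        | one => exact ⟨1, R.one_mem, rfl⟩
        | mul x y _ _ hx hy =>
          obtain ⟨g, hg, rfl⟩ := hx
          obtain ⟨h, hh, rfl⟩ := hy
          exact ⟨g * h, R.mul_mem hg hh, rfl⟩
      obtain ⟨g, hg, rfl⟩ := hmem
      obtain ⟨c, hc⟩ := hcoord g hg
      show (g : Matrix ι ι F) ∈ _
      rw [hc]
      refine Submodule.sum_mem _ fun i _ => ?_
      exact (Submodule.span F₀ _).smul_mem (c i) (Submodule.subset_span ⟨i, rfl⟩)
    · rintro _ ⟨i, rfl⟩
      exact Submonoid.subset_closure ⟨x i, hx i, rfl⟩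
  have hdim : Module.finrank F₀ A₀ ≤ Fintype.card ι * Fintype.card ι := by
    show Module.finrank F₀ A₀.toSubmodule ≤ _
    rw [hsub]
    exact (finrank_range_le_card (R := F₀) _).trans hcard
  have hspan : Submodule.span F (A₀ : Set (Matrix ι ι F)) = ⊤ := by
    rw [eq_top_iff, ← Algebra.top_toSubmodule (R := F), ← hR, spanAlg_toSubmodule]
    exact Submodule.span_mono Algebra.subset_adjoin
  obtain ⟨B, hB⟩ := exists_conj_into_subfield F₀ A₀ hspan hdim
  exact ⟨B, fun g hg => (hB _).1 (Algebra.subset_adjoin ⟨g, hg, rfl⟩)⟩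

/-- A group whose Galois twist is inner is realisable over the fixed field. -/
theorem realisable_of_twist [Nonempty ι] [Finite F] {F₀ : Subfield F} {τ : F ≃+* F}
    (hτ : ∀ a, τ a = a ↔ a ∈ F₀) {R : Subgroup (GL ι F)} (hR : spanAlg R = ⊤) (C : GL ι F)
    (hC : ∀ g ∈ R, (g : Matrix ι ι F).map τ = conjGL C (g : Matrix ι ι F)) :
    ∃ B : GL ι F, ∀ g ∈ R, conjGL B (g : Matrix ι ι F) ∈ subfieldMatrices F₀ := by
  classical
  have htop : Submodule.span F (matrixSet R) = ⊤ := by
    rw [← spanAlg_toSubmodule, hR, Algebra.top_toSubmodule]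
  obtain ⟨s, hs, hspan, hli⟩ := exists_linearIndependent F (matrixSet R)
  haveI : Fintype s := hli.setFinite.fintype
  choose x hx hxe using fun i : s => hs i.2
  have hcard : Fintype.card s = Fintype.card ι * Fintype.card ι := by
    have := linearIndependent_iff_card_eq_finrank_span.1 hli
    rw [this, Subtype.range_coe, Set.finrank, hspan, htop, finrank_top, Module.finrank_matrix,
      Module.finrank_self, mul_one]
  refine realisable_of_coords hR x hx hcard.le fun g hg => ?_
  have hmem : (g : Matrix ι ι F) ∈ Submodule.span F (Set.range ((↑) : s → Matrix ι ι F)) := by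
    rw [Subtype.range_coe, hspan, htop]
    exact Submodule.mem_top
  obtain ⟨c, hc⟩ := (Submodule.mem_span_range_iff_exists_fun F).1 hmem
  have hfix : ∀ i, τ (c i) = c i := by
    have h1 : ∑ i, τ (c i) • ((i : Matrix ι ι F)).map τ = (g : Matrix ι ι F).map τ := by
      rw [← hc]
      ext a b
      simp [Matrix.sum_apply, map_sum]
    have h2 : ∀ i : s, ((i : Matrix ι ι F)).map τ = conjGL C (i : Matrix ι ι F) := fun i => by
      rw [← hxe i]; exact hC _ (hx i)
    simp only [h2, ← map_smul, ← map_sum, hC g hg] at h1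
    have h3 := (conjGL C).injective h1
    rw [← hc] at h3
    intro i
    exact sub_eq_zero.1 (Fintype.linearIndependent_iff.1 hli (fun i => τ (c i) - c i)
      (by simp [sub_smul, Finset.sum_sub_distrib, h3]) i)
  refine ⟨fun i => ⟨c i, (hτ _).1 (hfix i)⟩, ?_⟩
  rw [← hc]
  exact Finset.sum_congr rfl fun i _ => by rw [← hxe i]

/-- A proper subfield lies in one of prime index. -/
lemma exists_subfield_prime_index [Finite F] {F₀ : Subfield F} (h : F₀ ≠ ⊤) :
    ∃ (F₁ : Subfield F) (r : ℕ), r.Prime ∧ F₀ ≤ F₁ ∧ Nat.card F = Nat.card F₁ ^ r := by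
  classical
  haveI : Fintype F := Fintype.ofFinite F
  haveI : Fintype F₀ := Fintype.ofFinite F₀
  set d := Module.finrank F₀ F with hd
  have hd1 : d ≠ 1 := by
    intro h1
    apply h
    refine eq_top_iff.2 fun x _ => ?_
    obtain ⟨c, hc⟩ := (finrank_eq_one_iff_of_nonzero' (1 : F) one_ne_zero).1 h1 x
    rw [← hc]
    show (c : F) * 1 ∈ F₀
    exact F₀.mul_mem c.2 F₀.one_mem
  obtain ⟨r, hr, hrd⟩ := Nat.exists_prime_and_dvd hd1
  set fr := FiniteField.frobeniusAlgEquivOfAlgebraic F₀ F with hfr
  have hdpos : 0 < d := Module.finrank_pos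
  have hord : orderOf (fr ^ (d / r)) = r := by
    rw [orderOf_pow' fr (Nat.div_pos (Nat.le_of_dvd hdpos hrd) hr.pos).ne',
      hfr, FiniteField.orderOf_frobeniusAlgEquivOfAlgebraic, ← hd,
      Nat.gcd_eq_right (Nat.div_dvd_of_dvd hrd), Nat.div_div_self hrd hdpos.ne']
  set H := Subgroup.zpowers (fr ^ (d / r))
  set K := IntermediateField.fixedField H with hK
  have h1 : Module.finrank K F = r := by
    rw [IntermediateField.finrank_fixedField_eq_card, Nat.card_zpowers, hord]
  refine ⟨K.toSubfield, r, hr, fun x hx => ?_, ?_⟩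
  · have := K.algebraMap_mem ⟨x, hx⟩
    exact this
  · have h2 := Module.natCard_eq_pow_finrank (K := K) (V := F)
    rw [h1] at h2
    exact h2

end Cfsg.Agent.GeoClasses
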