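import Cfsg.Agent.GeoClasses.TransvGen
import Cfsg.Agent.Forms.OmegaGeom
import Cfsg.Agent.Forms.OmegaCrit
import Cfsg.Agent.OrthGen.Siegel

/-!
`Ω(Q)` as the Eichler subgroup in dimension at least five, and transport to matrices.
-/

set_option autoImplicit false

namespace Cfsg.Agent.GeoClasses

open QuadraticMap Module Cfsg.Agent.Classical

universe u v

section General

variable {F : Type u} [Field F] [Finite F] {V : Type v} [AddCommGroup V] [Module F V]
  [FiniteDimensional F V] {Q : QuadraticForm F V}

omit [Finite F] [FiniteDimensional F V] in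
lemma notExceptional_five (hn : 5 ≤ finrank F V) : OrthGen.NotExceptional Q := Or.inr (by omega)

lemma siegel_singular_mem_commutator (hB : BNondeg Q) (hn : 5 ≤ finrank F V) {u a : V}
    (hu : Q u = 0) (ha : polar Q u a = 0) (ha0 : Q a = 0) :
    siegel Q hu ha ∈ commutator (OQ Q) := by
  haveI : Finite V := Module.finite_of_finite F
  have hx := notExceptional_five (Q := Q) hn
  by_cases h2 : (2 : F) = 0
  · refine (Forms.mem_commutator_OQ_iff hB hx _).2 ⟨?_, fun h => absurd h2 h⟩
    by_cases hli : LinearIndependent F ![u, a]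
    · set U := Submodule.span F (Set.range ![u, a]) with hU
      have hfix : fixSpace (siegel Q hu ha) = OrthGen.perpSub Q U := by
        ext v
        rw [mem_fixSpace, OrthGen.mem_orthogonal_polar]
        constructor
        · intro h
          have h' : polar Q u v • a + (-polar Q a v) • u = 0 := by
            rw [siegel_apply, ha0, zero_mul, zero_smul, sub_zero] at h
            rw [neg_smul, ← sub_eq_add_neg]
            have := congrArg (· - v) h
            simpa [add_sub_assoc, sub_self, add_sub_cancel_left] using this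
          have h2 := Fintype.linearIndependent_iff.1 hli ![-polar Q a v, polar Q u v]
            (by simpa [Fin.sum_univ_two, add_comm] using h')
          have ea : polar Q a v = 0 := by simpa using h2 0
          have eu : polar Q u v = 0 := by simpa using h2 1
          intro s hs
          induction hs using Submodule.span_induction with
          | mem y hy => obtain ⟨i, rfl⟩ := hy; fin_cases i <;> simpa
          | zero => simp
          | add y z _ _ hy hz => rw [polar_add_left, hy, hz, add_zero]
          | smul c y _ hy => rw [polar_smul_left, hy, smul_zero]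
        · intro h
          exact siegel_fix Q hu ha (h u (Submodule.subset_span ⟨0, rfl⟩))
            (h a (Submodule.subset_span ⟨1, rfl⟩))
      have hdim : finrank F ↥U = 2 := by
        rw [hU, finrank_span_eq_card hli, Fintype.card_fin]
      rw [dickson, hfix, OrthGen.finrank_orthogonal_polar hB, hdim]
      exact Even.neg_one_pow ⟨finrank F V - 1, by omega⟩
    · have : siegel Q hu ha = 1 := by
        rcases eq_or_ne u 0 with rfl | hu0
        · ext v; simp
        rw [LinearIndependent.pair_iff' hu0] at hli
        push Not at hli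
        obtain ⟨k, rfl⟩ := hli
        have h0 : polar Q u ((0 : V) + k • u) = 0 := by rwa [zero_add]
        rw [siegel_congr Q hu ha hu h0 rfl (zero_add _).symm,
          siegel_add_self Q k hu (by simp) h0, siegel_zero]
      rw [this]
      exact dickson_one
  · have h' : polar Q u ((2 : F)⁻¹ • a) = 0 := by rw [polar_smul_right, ha, smul_zero]
    have := Forms.mul_self_mem_commutator hB hx (siegel Q hu h')
    rwa [siegel_mul, siegel_congr Q _ _ hu ha rfl
      (show (2 : F)⁻¹ • a + (2 : F)⁻¹ • a = a by rw [← two_smul F, smul_inv_smul₀ h2])] at this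

/-- In dimension at least five the commutator subgroup is the Eichler subgroup. -/
theorem commutator_eq_EQ (hB : BNondeg Q) (hn : 5 ≤ finrank F V) :
    commutator (OQ Q) = EQ Q := by
  haveI : Finite V := Module.finite_of_finite F
  have hx := notExceptional_five (Q := Q) hn
  have hp := OrthGen.hasTwoPairs_of_five_le hB hn
  refine le_antisymm ?_ ((Subgroup.closure_le _).2 ?_)
  · have hN := EQ_normal Q
    let π := QuotientGroup.mk' (EQ Q)
    have hrefl : ∀ x (hx : Q x ≠ 0) y (hy : Q y ≠ 0),
        Commute (π (reflQ Q x hx)) (π (reflQ Q y hy)) := by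
      intro x hx y hy
      have hxy : Q ((reflQ Q x hx).1 y) = Q y := OQ_map_app _ _
      have := reflQ_mul_mem_EQ hB hp (x := (reflQ Q x hx).1 y) (y := y)
        (by rw [hxy]; exact hy) hy hxy
      rw [← reflQ_conj Q (reflQ Q x hx) y hy] at this
      rw [← commutatorElement_eq_one_iff_commute, ← map_commutatorElement, ← MonoidHom.mem_ker,
        QuotientGroup.ker_mk', commutatorElement_def, reflQ_inv Q y hy]
      exact this
    have key : ∀ g ∈ RQ Q, ∀ k ∈ RQ Q, Commute (π g) (π k) := by
      intro g hg k hk
      induction hk using Subgroup.closure_induction with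
      | one => simp
      | mul a b _ _ ha hb => rw [map_mul]; exact ha.mul_right hb
      | inv a _ ha => rw [map_inv]; exact ha.inv_right
      | mem k hk =>
        obtain ⟨y, hy, rfl⟩ := hk
        induction hg using Subgroup.closure_induction with
        | one => simp
        | mul a b _ _ ha hb => rw [map_mul]; exact ha.mul_left hb
        | inv a _ ha => rw [map_inv]; exact ha.inv_left
        | mem g hg => obtain ⟨x, hx, rfl⟩ := hg; exact hrefl x hx y hy
    rw [← QuotientGroup.ker_mk' (EQ Q), commutator_def, Subgroup.commutator_le]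
    intro g _ k _
    rw [MonoidHom.mem_ker, map_commutatorElement, commutatorElement_eq_one_iff_commute]
    have ht := OrthGen.RQ_eq_top hB hx
    exact key g (ht ▸ Subgroup.mem_top _) k (ht ▸ Subgroup.mem_top _)
  · rintro _ ⟨u, a, hu, ha, rfl⟩
    refine (Subgroup.closure_le _).2 ?_ (OrthGen.siegel_mem_singSiegel hB hp hu ha)
    rintro _ ⟨u, a, hu, ha, ha0, rfl⟩
    exact siegel_singular_mem_commutator hB hn hu ha ha0

end General

/-- Maximality is transported by injective homomorphisms. -/
lemma isMaximalIn_map {G H : Type*} [Group G] [Group H] {j : G →* H} (hj : Function.Injective j)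
    {K P : Subgroup G} (h : Cfsg.Geo.IsMaximalIn K P) :
    Cfsg.Geo.IsMaximalIn (K.map j) (P.map j) := by
  refine ⟨(Subgroup.map_lt_map_iff_of_injective hj).2 h.1, fun M hM hMK => ?_⟩
  have hMr : M ≤ j.range := hMK.trans (Subgroup.map_le_range j K)
  have e : (M.comap j).map j = M := Subgroup.map_comap_eq_self hMr
  rcases h.2 (M.comap j) (by rwa [← Subgroup.map_le_map_iff_of_injective hj, e])
      (by rwa [← Subgroup.map_le_map_iff_of_injective hj, e]) with h1 | h1
  · exact Or.inl (by rw [← e, h1])
  · exact Or.inr (by rw [← e, h1])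

section Matrices

variable {F : Type u} [Field F] {ι : Type} [Fintype ι] [DecidableEq ι]
open Cfsg.Geo

/-- The quadratic form bundled from a non-degenerate quadratic form of the Prelude. -/
noncomputable def toQF {Q : (ι → F) → F} (hQ : IsNondegenerateQuadraticForm Q) :
    QuadraticForm F (ι → F) where
  toFun := Q
  toFun_smul c v := by rw [hQ.smul, smul_eq_mul, pow_two]
  exists_companion' := ⟨LinearMap.mk₂ F (QuadraticMap.polar Q)
    hQ.polar_bilinear.add_left hQ.polar_bilinear.smul_left
    hQ.polar_bilinear.add_right hQ.polar_bilinear.smul_right,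
    fun x y => by rw [LinearMap.mk₂_apply, QuadraticMap.polar]; abel⟩

@[simp] lemma coe_toQF {Q : (ι → F) → F} (hQ : IsNondegenerateQuadraticForm Q) :
    ⇑(toQF hQ) = Q := rfl

/-- The embedding of `OQ` into the matrix group. -/
noncomputable def oqToGL (Qf : QuadraticForm F (ι → F)) : OQ Qf →* GL ι F :=
  (Cfsg.isometryGroup F ⇑Qf).subtype.comp (OrthGen.matEquiv Qf).symm.toMonoidHom

lemma oqToGL_injective (Qf : QuadraticForm F (ι → F)) : Function.Injective (oqToGL Qf) :=
  (Subgroup.subtype_injective _).comp (OrthGen.matEquiv Qf).symm.injective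

lemma oqToGL_mulVec (Qf : QuadraticForm F (ι → F)) (g : OQ Qf) (v : ι → F) :
    Matrix.mulVec (oqToGL Qf g : Matrix ι ι F) v = g.1 v := by
  have := OrthGen.matEquiv_apply Qf ((OrthGen.matEquiv Qf).symm g) v
  rw [MulEquiv.apply_symm_apply] at this
  exact this.symm

lemma map_oqToGL_commutator (Qf : QuadraticForm F (ι → F)) :
    (commutator (OQ Qf)).map (oqToGL Qf) = omegaGL ⇑Qf := by
  rw [oqToGL, ← Subgroup.map_map, map_commutator_top_of_equiv (OrthGen.matEquiv Qf).symm]
  rfl

lemma map_oqToGL_stabSub (Qf : QuadraticForm F (ι → F)) (W : Submodule F (ι → F)) :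
    (Forms.stabSub Qf W ⊓ commutator (OQ Qf)).map (oqToGL Qf) =
      subspaceStabilizer W ⊓ omegaGL ⇑Qf := by
  rw [Subgroup.map_inf _ _ _ (oqToGL_injective Qf), map_oqToGL_commutator]
  refine le_antisymm (inf_le_inf_right _ ?_) fun g hg => ?_
  · rintro _ ⟨g, hg, rfl⟩
    refine mem_subspaceStabilizer_of_le fun w hw => ?_
    rw [oqToGL_mulVec]
    have : g.1 w ∈ W.map g.1.toLinearMap := ⟨w, hw, rfl⟩
    rwa [show W.map g.1.toLinearMap = W from hg] at this
  · refine ⟨?_, hg.2⟩
    obtain ⟨k, hk, hkg⟩ : g ∈ (commutator (OQ Qf)).map (oqToGL Qf) := by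
      rw [map_oqToGL_commutator]; exact hg.2
    refine ⟨k, Forms.mem_stabSub_of_le fun w hw => ?_, hkg⟩
    rw [← oqToGL_mulVec, hkg]
    exact (mem_subspaceStabilizer_iff.1 hg.1 w).1 hw

end Matrices



section Nondeg

variable {F : Type u} [Field F] {ι : Type} [Fintype ι] [DecidableEq ι]

omit [DecidableEq ι] [Fintype ι] in
lemma bNondeg_toQF {Q : (ι → F) → F} (hQ : Cfsg.Geo.IsNondegenerateQuadraticForm Q) :
    BNondeg (toQF hQ) := fun x hx => by
  by_contra h0
  obtain ⟨-, y, hy⟩ := hQ.nondegenerate x h0
  exact hy (hx y)

end Nondeg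

end Cfsg.Agent.GeoClasses
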