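import Cfsg.Agent.GeoClasses.Basic
import Cfsg.Agent.Linear.Transvection

/-!
`SL(ι, F)` inside `GL(ι, F)` is generated by the transvections `transv φ w`, and the centres of the
transvections lying in an intermediate group form an invariant cone.
-/

set_option autoImplicit false

namespace Cfsg.Agent.GeoClasses

open Matrix Cfsg.Geo
open scoped MatrixGroups Matrix

variable {ι : Type} [Fintype ι] [DecidableEq ι] {F : Type*} [Field F]

/-- Extensionality of `GL` by the action on vectors. -/
lemma gl_ext_mulVec {g h : GL ι F}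
    (H : ∀ v, (g : Matrix ι ι F) *ᵥ v = (h : Matrix ι ι F) *ᵥ v) : g = h := by
  apply Units.ext
  apply Matrix.toLin'.injective
  exact LinearMap.ext fun v => by simpa using H v

lemma mulVec_inv_cancel (g : GL ι F) (x : ι → F) :
    (g : Matrix ι ι F) *ᵥ (((g⁻¹ : GL ι F) : Matrix ι ι F) *ᵥ x) = x := by
  rw [Matrix.mulVec_mulVec, ← Units.val_mul, mul_inv_cancel, Units.val_one, Matrix.one_mulVec]

/-- Conjugate of a transvection. -/
lemma conj_transv (g : GL ι F) (φ : (ι → F) →ₗ[F] F) (w : ι → F) (h : φ w = 0)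
    (h' : (φ ∘ₗ Matrix.toLin' ((g⁻¹ : GL ι F) : Matrix ι ι F)) ((g : Matrix ι ι F) *ᵥ w) = 0) :
    g * transv φ w h * g⁻¹ =
      transv (φ ∘ₗ Matrix.toLin' ((g⁻¹ : GL ι F) : Matrix ι ι F)) ((g : Matrix ι ι F) *ᵥ w) h' := by
  refine gl_ext_mulVec fun v => ?_
  simp only [Units.val_mul, ← Matrix.mulVec_mulVec, transv_mulVec, LinearMap.comp_apply,
    Matrix.toLin'_apply, Matrix.mulVec_add, Matrix.mulVec_smul, mulVec_inv_cancel]

/-- A subgroup containing every transvection contains `SL`. -/
lemma specialLinear_le_of_transv_mem [Nontrivial ι] {M : Subgroup (GL ι F)}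
    (h : ∀ (φ : (ι → F) →ₗ[F] F) (w : ι → F) (hw : φ w = 0), transv φ w hw ∈ M) :
    specialLinear ι F ≤ M := by
  intro g hg
  rw [mem_specialLinear_iff] at hg
  have key : ∀ A : Matrix.SpecialLinearGroup ι F, Matrix.SpecialLinearGroup.toGL A ∈ M := by
    intro A
    refine Cfsg.Agent.Linear.transvection_induction
      (fun A => Matrix.SpecialLinearGroup.toGL A ∈ M) (fun i j hij c => ?_) (fun A B hA hB => ?_) A
    · have hw : (c • (LinearMap.proj j : (ι → F) →ₗ[F] F)) (Pi.single i (1 : F)) = 0 := by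
        simp [hij.symm]
      convert h (c • (LinearMap.proj j : (ι → F) →ₗ[F] F)) (Pi.single i (1 : F)) hw using 1
      refine gl_ext_mulVec fun v => ?_
      rw [transv_mulVec]
      simp [Matrix.SpecialLinearGroup.transvection_coe, Matrix.add_mulVec, Matrix.single_mulVec,
        Pi.single_apply, funext_iff, Function.update_apply]
    · rw [map_mul]
      exact mul_mem hA hB
  have hA := key ⟨(g : Matrix ι ι F), hg⟩
  convert hA using 1
  exact Units.ext rfl

/-- The vectors all of whose transvections lie in `M`. -/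
def centres (M : Subgroup (GL ι F)) : Set (ι → F) :=
  {v | ∀ (φ : (ι → F) →ₗ[F] F) (h : φ v = 0), transv φ v h ∈ M}

lemma smul_mem_centres {M : Subgroup (GL ι F)} {v : ι → F} (hv : v ∈ centres M) (c : F) :
    c • v ∈ centres M := by
  intro φ h
  have h' : (c • φ) v = 0 := by simpa using h
  convert hv (c • φ) h' using 1
  refine gl_ext_mulVec fun x => ?_
  simp [mul_comm c, mul_smul]

lemma mulVec_mem_centres {M : Subgroup (GL ι F)} {v : ι → F} (hv : v ∈ centres M) {g : GL ι F}
    (hg : g ∈ M) : (g : Matrix ι ι F) *ᵥ v ∈ centres M := by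
  intro φ h
  have h' : (φ ∘ₗ Matrix.toLin' (g : Matrix ι ι F)) v = 0 := by simpa using h
  have := mul_mem (mul_mem hg (hv _ h')) (inv_mem hg)
  convert this using 1
  refine gl_ext_mulVec fun x => ?_
  simp only [Units.val_mul, ← Matrix.mulVec_mulVec, transv_mulVec, LinearMap.comp_apply,
    Matrix.toLin'_apply, Matrix.mulVec_add, Matrix.mulVec_smul, mulVec_inv_cancel]

/-- Stabilisers of proper non-zero subspaces are maximal in `SL`. -/
lemma subspaceStabilizer_maximal [Nontrivial ι] {W : Submodule F (ι → F)} (hW0 : W ≠ ⊥)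
    (hW1 : W ≠ ⊤) :
    IsMaximalIn (specialLinear ι F) (subspaceStabilizer W ⊓ specialLinear ι F) := by
  refine ⟨lt_of_le_not_ge inf_le_right fun hle =>
    specialLinear_not_le_stabilizer hW0 hW1 (hle.trans inf_le_left), fun M hM hMK => ?_⟩
  by_cases hMW : M ≤ subspaceStabilizer W
  · exact Or.inl (le_antisymm (le_inf hMW hMK) hM)
  refine Or.inr (le_antisymm hMK ?_)
  have hWX : ∀ w ∈ W, w ∈ centres M := fun w hw φ h =>
    hM ⟨mem_subspaceStabilizer_of_le fun v hv => by
      rw [transv_mulVec]; exact W.add_mem hv (W.smul_mem _ hw), transv_mem_specialLinear _ _ _⟩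
  obtain ⟨g, hgM, hgW⟩ := SetLike.not_le_iff_exists.1 hMW
  obtain ⟨w, hwW, hgw⟩ : ∃ w ∈ W, (g : Matrix ι ι F) *ᵥ w ∉ W := by
    by_contra hcon
    push Not at hcon
    exact hgW (mem_subspaceStabilizer_of_le hcon)
  set x := (g : Matrix ι ι F) *ᵥ w with hx
  have hxX : x ∈ centres M := mulVec_mem_centres (hWX w hwW) hgM
  -- transvections fixing `W` pointwise move `x` to every vector congruent to it
  have move : ∀ y, x ∉ W ⊔ (F ∙ (y - x)) → y ∈ centres M := by
    intro y hy
    obtain ⟨φ, hφx, hφ⟩ := exists_functional hy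
    have h0 : φ (y - x) = 0 :=
      hφ _ (Submodule.mem_sup_right (Submodule.mem_span_singleton_self _))
    have hmem : transv φ (y - x) h0 ∈ M :=
      hM ⟨mem_subspaceStabilizer_of_le fun v hv => by
        rw [transv_mulVec, hφ v (Submodule.mem_sup_left hv), zero_smul, add_zero]
        exact hv, transv_mem_specialLinear _ _ _⟩
    have := mulVec_mem_centres hxX hmem
    rwa [transv_mulVec, hφx, one_smul, add_sub_cancel] at this
  have hall : ∀ y, y ∈ centres M := by
    intro y
    by_cases hyW : y ∈ W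
    · exact hWX y hyW
    by_cases h : x ∈ W ⊔ (F ∙ (y - x))
    · obtain ⟨v, hv, z, hz, hvz⟩ := Submodule.mem_sup.1 h
      obtain ⟨a, rfl⟩ := Submodule.mem_span_singleton.1 hz
      have ha : a ≠ 0 := fun ha => hgw (by simp [ha] at hvz; exact hvz ▸ hv)
      have hy : a • y = (1 + a) • x - v := by
        rw [add_smul, one_smul, eq_sub_iff_add_eq]
        calc a • y + v = v + a • (y - x) + a • x := by rw [smul_sub]; abel
          _ = x + a • x := by rw [hvz]
      have h1a : 1 + a ≠ 0 := fun h1a => hyW (by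
        have : a • y ∈ W := by rw [hy, h1a, zero_smul, zero_sub]; exact W.neg_mem hv
        simpa [ha] using W.smul_mem a⁻¹ this)
      set c := a⁻¹ * (1 + a) with hc
      have hc0 : c ≠ 0 := mul_ne_zero (inv_ne_zero ha) h1a
      have hdiff : c⁻¹ • y - x ∈ W := by
        have : c⁻¹ • y - x = (-(1 + a)⁻¹) • v := by
          have e : c⁻¹ • y = (1 + a)⁻¹ • (a • y) := by rw [hc, smul_smul]; simp [mul_comm]
          rw [e, hy, smul_sub, smul_smul, inv_mul_cancel₀ h1a, one_smul, neg_smul]
          abel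
        rw [this]
        exact W.smul_mem _ hv
      have := smul_mem_centres (move (c⁻¹ • y) (fun h' => hgw ?_)) c
      · rwa [smul_smul, mul_inv_cancel₀ hc0, one_smul] at this
      · exact (sup_le le_rfl ((Submodule.span_singleton_le_iff_mem _ _).2 hdiff)) h'
    · exact move y h
  exact specialLinear_le_of_transv_mem fun φ v h => hall v φ h

end Cfsg.Agent.GeoClasses
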